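import Groth.Agent.EtaLib.Homeo
import Groth.Agent.WeakNorm
import Mathlib.FieldTheory.IsAlgClosed.AlgebraicClosure
import Mathlib.RingTheory.RingHom.PurelyInseparable

/-!
# Universal homeomorphisms of affine schemes and absolute weak normalization
-/

universe u

open AlgebraicGeometry CategoryTheory

namespace AWNLib

variable {A B : Type u} [CommRing A] [CommRing B]

/-- The ring form of universal homeomorphisms. -/
lemma univHomeo_iff (f : A →+* B) :
    FlatMor.IsUnivHomeo (Spec.map (CommRingCat.ofHom f)) ↔ f.IsIntegral ∧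
      Function.Surjective (PrimeSpectrum.comap f) ∧
      ∀ (K : Type u) [Field K] (g₁ g₂ : B →+* K), g₁.comp f = g₂.comp f → g₁ = g₂ := by
  rw [Groth.Agent.S0415.result]
  constructor
  · rintro ⟨h1, h2, h3⟩
    refine ⟨IsIntegralHom.SpecMap_iff.mp h1, h3.surj, fun K _ g₁ g₂ h => ?_⟩
    have h2' := ((tfae_universallyInjective (f := Spec.map (CommRingCat.ofHom f))).out 0 1).mp h2
    have := @h2' K _ (Spec.map (CommRingCat.ofHom g₁)) (Spec.map (CommRingCat.ofHom g₂)) (by
      simp only
      rw [← Spec.map_comp, ← Spec.map_comp, ← CommRingCat.ofHom_comp, ← CommRingCat.ofHom_comp, h])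
    exact congrArg CommRingCat.Hom.hom (Spec.map_injective this)
  · rintro ⟨h1, h2, h3⟩
    refine ⟨IsIntegralHom.SpecMap_iff.mpr h1, ?_, ⟨h2⟩⟩
    have key : UniversallyInjective (Spec.map (CommRingCat.ofHom f)) ↔ ∀ (K : Type u) [Field K],
        Function.Injective (fun g : Spec (.of K) ⟶ Spec (CommRingCat.of B) => g ≫ Spec.map (CommRingCat.ofHom f)) :=
      (tfae_universallyInjective (f := Spec.map (CommRingCat.ofHom f))).out 0 1
    refine key.mpr fun K _ g₁ g₂ h => ?_
    obtain ⟨g₁, rfl⟩ := Spec.map_surjective g₁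
    obtain ⟨g₂, rfl⟩ := Spec.map_surjective g₂
    simp only at h
    rw [← Spec.map_comp, ← Spec.map_comp] at h
    have := congrArg CommRingCat.Hom.hom (Spec.map_injective h)
    exact congrArg Spec.map (CommRingCat.hom_ext (h3 K _ _ this))

lemma isNilpotent_of_surjective_comap (f : A →+* B) (hs : Function.Surjective (PrimeSpectrum.comap f))
    {a : A} (ha : f a = 0) : IsNilpotent a := by
  rw [nilpotent_iff_mem_prime]
  intro J hJ
  obtain ⟨Q, hQ⟩ := hs ⟨J, hJ⟩
  rw [show J = (PrimeSpectrum.comap f Q).asIdeal from (congrArg PrimeSpectrum.asIdeal hQ).symm]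
  show f a ∈ Q.asIdeal
  rw [ha]
  exact Q.asIdeal.zero_mem

/-- Maps to algebraically closed fields extend along universal homeomorphisms. -/
lemma exists_extend {Ω : Type u} [Field Ω] [IsAlgClosed Ω] (f : A →+* B) (hf : f.IsIntegral)
    (hs : Function.Surjective (PrimeSpectrum.comap f)) (φ : A →+* Ω) : ∃ χ : B →+* Ω, χ.comp f = φ := by
  have hker : RingHom.ker f.rangeRestrict ≤ RingHom.ker φ := fun a ha =>
    (RingHom.ker_isPrime φ).radical ▸ by
      obtain ⟨n, hn⟩ := isNilpotent_of_surjective_comap f hs (congrArg Subtype.val (RingHom.mem_ker.1 ha))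
      exact ⟨n, hn ▸ (RingHom.ker φ).zero_mem⟩
  let φ' : f.range →+* Ω := f.rangeRestrict.liftOfSurjective f.rangeRestrict_surjective ⟨φ, hker⟩
  have hint : f.range.subtype.IsIntegral := RingHom.IsIntegral.tower_top f.rangeRestrict f.range.subtype hf
  obtain ⟨χ, hχ⟩ := WeakNormLib.exists_lift φ' f.range.subtype Subtype.val_injective hint
  refine ⟨χ, RingHom.ext fun a => ?_⟩
  exact (hχ (f.rangeRestrict a)).trans
    (RingHom.liftOfRightInverse_comp_apply _ _ _ ⟨φ, hker⟩ a)

lemma pow_mem_of_univHomeo (f : A →+* B) (hf : FlatMor.IsUnivHomeo (Spec.map (CommRingCat.ofHom f)))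
    (Q : PrimeSpectrum B) (y : Q.asIdeal.ResidueField) :
    ∃ n : ℕ, y ^ ringExpChar (PrimeSpectrum.comap f Q).asIdeal.ResidueField ^ n ∈
      Set.range (Ideal.ResidueField.map (PrimeSpectrum.comap f Q).asIdeal Q.asIdeal f rfl) := by
  rw [Groth.Agent.S0415.result] at hf
  have key : UniversallyInjective (Spec.map (CommRingCat.ofHom f)) ↔
      Function.Injective (Spec.map (CommRingCat.ofHom f)) ∧
        ∀ x, ((Spec.map (CommRingCat.ofHom f)).residueFieldMap x).hom.IsPurelyInseparable :=
    (tfae_universallyInjective (f := Spec.map (CommRingCat.ofHom f))).out 0 2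
  have hp := (key.mp hf.2.1).2 Q
  let eA := Scheme.Spec.residueFieldIso (CommRingCat.of A) (Spec.map (CommRingCat.ofHom f) Q)
  let eB := Scheme.Spec.residueFieldIso (CommRingCat.of B) Q
  letI := ((Spec.map (CommRingCat.ofHom f)).residueFieldMap Q).hom.toAlgebra
  haveI : IsPurelyInseparable _ _ := hp
  haveI : ExpChar (PrimeSpectrum.comap f Q).asIdeal.ResidueField
      (ringExpChar (PrimeSpectrum.comap f Q).asIdeal.ResidueField) := ringExpChar.expChar _
  let eA' : (PrimeSpectrum.comap f Q).asIdeal.ResidueField →+* _ := eA.inv.hom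
  have : ExpChar ((Spec (CommRingCat.of A)).residueField (Spec.map (CommRingCat.ofHom f) Q))
      (ringExpChar (PrimeSpectrum.comap f Q).asIdeal.ResidueField) :=
    expChar_of_injective_ringHom (R := (PrimeSpectrum.comap f Q).asIdeal.ResidueField) eA'.injective _
  obtain ⟨n, z, hz⟩ := (isPurelyInseparable_iff_pow_mem _
    (ringExpChar (PrimeSpectrum.comap f Q).asIdeal.ResidueField)).1 hp (eB.inv.hom y)
  refine ⟨n, eA.hom.hom z, ?_⟩
  have hinj : Function.Injective eB.inv.hom := eB.symm.commRingCatIsoToRingEquiv.injective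
  apply hinj
  rw [map_pow, ← hz]
  refine (DFunLike.congr_fun (EtaLib.residueFieldMap_comp f Q) (eA.hom.hom z)).symm.trans ?_
  exact congrArg _ (eA.hom_inv_id_apply z)

section Construction

variable (A)

/-- The ambient product of algebraically closed fields. -/
abbrev Amb : Type u := ∀ p : PrimeSpectrum A, AlgebraicClosure p.asIdeal.ResidueField

/-- The diagonal. -/
noncomputable def diag : A →+* Amb A :=
  Pi.ringHom fun p => (algebraMap p.asIdeal.ResidueField (AlgebraicClosure p.asIdeal.ResidueField)).comp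
    (algebraMap A p.asIdeal.ResidueField)

variable {A}

/-- The elements lying in some universal homeomorphism inside the ambient product. -/
def goodSet : Set (Amb A) :=
  {x | ∃ (C : Subring (Amb A)) (h : ∀ a, diag A a ∈ C),
    FlatMor.IsUnivHomeo (Spec.map (CommRingCat.ofHom ((diag A).codRestrict C h))) ∧ x ∈ C}

variable (A)

/-- The absolute weak normalization. -/
noncomputable def awn : Subring (Amb A) := Subring.closure (Set.range (diag A) ∪ goodSet)

lemma diag_mem (a : A) : diag A a ∈ awn A := Subring.subset_closure (Or.inl ⟨a, rfl⟩)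

/-- The structure map. -/
noncomputable def toAwn : A →+* awn A := (diag A).codRestrict (awn A) (diag_mem A)

lemma diag_ker_le (p : PrimeSpectrum A) : RingHom.ker (diag A) ≤ p.asIdeal := fun a ha => by
  have : algebraMap p.asIdeal.ResidueField (AlgebraicClosure p.asIdeal.ResidueField)
      (algebraMap A _ a) = 0 := congrFun (RingHom.mem_ker.1 ha) p
  rwa [map_eq_zero, Ideal.algebraMap_residueField_eq_zero] at this

/-- An integral subring of the ambient product containing the diagonal surjects on spectra. -/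
lemma surjective_comap (C : Subring (Amb A)) (h : ∀ a, diag A a ∈ C) (p : PrimeSpectrum A) :
    ∃ Q, PrimeSpectrum.comap ((diag A).codRestrict C h) Q = p := by
  let e : C →+* AlgebraicClosure p.asIdeal.ResidueField :=
    (Pi.evalRingHom (fun p : PrimeSpectrum A => AlgebraicClosure p.asIdeal.ResidueField) p).comp C.subtype
  refine ⟨⟨RingHom.ker e, RingHom.ker_isPrime e⟩, PrimeSpectrum.ext ?_⟩
  show (RingHom.ker e).comap _ = _
  rw [RingHom.comap_ker]
  show RingHom.ker ((algebraMap p.asIdeal.ResidueField _).comp (algebraMap A p.asIdeal.ResidueField)) = _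
  rw [RingHom.ker_comp_of_injective _ (algebraMap p.asIdeal.ResidueField
    (AlgebraicClosure p.asIdeal.ResidueField)).injective, Ideal.ker_algebraMap_residueField]

theorem univHomeo_toAwn : FlatMor.IsUnivHomeo (Spec.map (CommRingCat.ofHom (toAwn A))) := by
  rw [univHomeo_iff]
  refine ⟨?_, surjective_comap A _ _, fun K _ g₁ g₂ h => ?_⟩
  · letI := (diag A).toAlgebra
    have key : awn A ≤ (integralClosure A (Amb A)).toSubring := by
      refine Subring.closure_le.2 ?_
      rintro x (⟨a, rfl⟩ | ⟨C, hC, hu, hx⟩)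
      · exact (isIntegral_algebraMap : IsIntegral A (algebraMap A (Amb A) a))
      · obtain ⟨P, hP, hP0⟩ := ((univHomeo_iff _).1 hu).1 ⟨x, hx⟩
        refine ⟨P, hP, ?_⟩
        have := congrArg C.subtype hP0
        rw [Polynomial.hom_eval₂, map_zero] at this
        exact this
    intro x
    obtain ⟨P, hP, hP0⟩ := key x.2
    refine ⟨P, hP, Subtype.ext ?_⟩
    show (awn A).subtype (Polynomial.eval₂ (toAwn A) x P) = 0
    rw [Polynomial.hom_eval₂]
    exact hP0
  · -- the set of elements on which `g₁` and `g₂` agree is a subring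
    let E : Subring (awn A) := RingHom.eqLocus g₁ g₂
    suffices E = ⊤ from RingHom.ext fun x => (show x ∈ E from this ▸ Subring.mem_top x)
    refine (Subring.eq_top_iff' _).2 fun ⟨x, hx⟩ => ?_
    induction hx using Subring.closure_induction with
    | mem y hy =>
      rcases hy with ⟨a, rfl⟩ | ⟨C, hC, hu, hyC⟩
      · exact DFunLike.congr_fun h a
      · have hle : C ≤ awn A := fun z hz => Subring.subset_closure (Or.inr ⟨C, hC, hu, hz⟩)
        have := ((univHomeo_iff _).1 hu).2.2 K (g₁.comp (Subring.inclusion hle)) (g₂.comp (Subring.inclusion hle))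
          (RingHom.ext fun a => DFunLike.congr_fun h a)
        exact DFunLike.congr_fun this ⟨y, hyC⟩
    | zero => exact E.zero_mem
    | one => exact E.one_mem
    | add y z _ _ hy hz => exact E.add_mem hy hz
    | neg y _ hy => exact E.neg_mem hy
    | mul y z _ _ hy hz => exact E.mul_mem hy hz

theorem isRingAWN_toAwn : HTop.IsRingAWN (toAwn A) := by
  refine ⟨univHomeo_toAwn A, fun C _ ψ hψ => ?_⟩
  obtain ⟨hint, hs, huniq⟩ := (univHomeo_iff ψ).1 hψ
  have hx : ∀ p : PrimeSpectrum A, ∃ χ : C →+* AlgebraicClosure p.asIdeal.ResidueField,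
      χ.comp ψ = (algebraMap p.asIdeal.ResidueField _).comp (algebraMap A p.asIdeal.ResidueField) :=
    fun p => exists_extend ψ hint hs _
  choose χ hχ using hx
  let χ₀ : C →+* Amb A := Pi.ringHom χ
  have hχ₀ : χ₀.comp ψ = diag A := RingHom.ext fun a => funext fun p => DFunLike.congr_fun (hχ p) a
  have hdiag : ∀ a, diag A a ∈ χ₀.range := fun a => ⟨ψ a, DFunLike.congr_fun hχ₀ a⟩
  have hcomp : (diag A).codRestrict χ₀.range hdiag = χ₀.rangeRestrict.comp ψ :=
    RingHom.ext fun a => Subtype.ext (DFunLike.congr_fun hχ₀ a).symm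
  have hD : FlatMor.IsUnivHomeo (Spec.map (CommRingCat.ofHom ((diag A).codRestrict χ₀.range hdiag))) := by
    rw [univHomeo_iff]
    refine ⟨?_, surjective_comap A _ hdiag, fun K _ g₁ g₂ hg => ?_⟩
    · rw [hcomp]
      exact RingHom.IsIntegral.trans _ _ hint (RingHom.isIntegral_of_surjective _ χ₀.rangeRestrict_surjective)
    · rw [hcomp, ← RingHom.comp_assoc, ← RingHom.comp_assoc] at hg
      exact (RingHom.cancel_right χ₀.rangeRestrict_surjective).1 (huniq K _ _ hg)
  have hmem : ∀ c, χ₀ c ∈ awn A := fun c => Subring.subset_closure (Or.inr ⟨χ₀.range, hdiag, hD, c, rfl⟩)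
  refine ⟨χ₀.codRestrict (awn A) hmem, RingHom.ext fun a => Subtype.ext (DFunLike.congr_fun hχ₀ a),
    fun χ' hχ' => ?_⟩
  refine RingHom.ext fun c => Subtype.ext (funext fun p => ?_)
  let ev : awn A →+* AlgebraicClosure p.asIdeal.ResidueField :=
    (Pi.evalRingHom (fun p : PrimeSpectrum A => AlgebraicClosure p.asIdeal.ResidueField) p).comp (awn A).subtype
  exact DFunLike.congr_fun (huniq _ (ev.comp χ') (χ p) (by rw [RingHom.comp_assoc, hχ', hχ p]; rfl)) c

end Construction

end AWNLib
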