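import Groth.Agent.AWNLib.Roots
import Groth.Agent.S7401
import Mathlib.FieldTheory.Perfect
import Mathlib.Algebra.Algebra.ZMod

/-!
# Characterisation of absolute weak normalizations by absolutely weakly normal rings
-/

universe u

open AlgebraicGeometry CategoryTheory

namespace AWNLib

variable {A B W : Type u} [CommRing A] [CommRing B] [CommRing W]

lemma isReduced_of_isSeminormalRing {A : Type u} [CommRing A] (h : HTop.IsSeminormalRing A) : IsReduced A := by
  refine (isReduced_iff_pow_one_lt 2 one_lt_two).2 fun x hx => ?_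
  exact (h 0 0 (by simp)).unique ⟨hx.symm, by rw [pow_succ, hx, zero_mul]⟩ ⟨by simp, by simp⟩

lemma isAWNRing_of_ringEquiv (e : A ≃+* B) (h : HTop.IsAWNRing A) : HTop.IsAWNRing B := by
  refine ⟨fun x y hxy => ?_, fun p hp x y hxy => ?_⟩
  · obtain ⟨a, ⟨ha1, ha2⟩, huniq⟩ := h.1 (e.symm x) (e.symm y) (by rw [← map_pow, ← map_pow, hxy])
    refine ⟨e a, ⟨?_, ?_⟩, fun b hb => ?_⟩
    · rw [← map_pow, ← ha1, e.apply_symm_apply]
    · rw [← map_pow, ← ha2, e.apply_symm_apply]
    · rw [← huniq (e.symm b) ⟨by rw [hb.1, map_pow], by rw [hb.2, map_pow]⟩, e.apply_symm_apply]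
  · obtain ⟨a, ⟨ha1, ha2⟩, huniq⟩ := h.2 p hp (e.symm x) (e.symm y) (by
      rw [← map_pow e.symm y, ← hxy, map_mul, map_pow, map_natCast])
    refine ⟨e a, ⟨?_, ?_⟩, fun b hb => ?_⟩
    · rw [← map_pow, ← ha1, e.apply_symm_apply]
    · rw [← map_natCast e p, ← map_mul, ← ha2, e.apply_symm_apply]
    · rw [← huniq (e.symm b) ⟨by rw [hb.1, map_pow], by rw [hb.2, map_mul, map_natCast]⟩, e.apply_symm_apply]

/-- A universal homeomorphism from an absolutely weakly normal ring to a reduced ring is bijective. -/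
lemma bijective_of_awnRing [IsReduced W] (f : B →+* W) (hB : HTop.IsAWNRing B)
    (hf : FlatMor.IsUnivHomeo (Spec.map (CommRingCat.ofHom f))) : Function.Bijective f := by
  have := isReduced_of_isSeminormalRing hB.1
  have hinj : Function.Injective f := (injective_iff_map_eq_zero f).2 fun b hb =>
    (isNilpotent_of_surjective_comap f ((univHomeo_iff f).1 hf).2.1 hb).eq_zero
  refine ⟨hinj, fun w => ?_⟩
  letI := f.toAlgebra
  obtain ⟨l, hl, hstep⟩ := (Groth.Agent.S7401.result (A := B) (B := W) hinj).1 hf {w}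
  have key : ∀ i : Fin l.length, l.get i ∈ f.range := by
    intro i
    induction i using WellFoundedLT.induction with
    | _ i ih =>
      have hsub : ∀ z ∈ Algebra.adjoin B {b : W | ∃ j : Fin l.length, j < i ∧ b = l.get j}, z ∈ f.range := by
        intro z hz
        induction hz using Algebra.adjoin_induction with
        | mem z hz => obtain ⟨j, hj, rfl⟩ := hz; exact ih j hj
        | algebraMap b => exact ⟨b, rfl⟩
        | add _ _ _ _ h1 h2 => exact add_mem h1 h2
        | mul _ _ _ _ h1 h2 => exact mul_mem h1 h2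
      rcases hstep i with ⟨h2, h3⟩ | ⟨p, hp, hpb, hbp⟩
      · obtain ⟨x, hx⟩ := hsub _ h2
        obtain ⟨y, hy⟩ := hsub _ h3
        obtain ⟨a, ⟨ha2, ha3⟩, -⟩ := hB.1 x y (hinj (by rw [map_pow, map_pow, hx, hy]; ring))
        refine ⟨a, sub_eq_zero.1 ?_⟩
        have e2 : f a ^ 2 = l.get i ^ 2 := by rw [← map_pow, ← ha2, hx]
        have e3 : f a ^ 3 = l.get i ^ 3 := by rw [← map_pow, ← ha3, hy]
        refine IsReduced.eq_zero _ ?_
        rw [nilpotent_iff_mem_prime]
        intro J hJ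
        rw [← Ideal.algebraMap_residueField_eq_zero, map_sub, sub_eq_zero]
        exact eq_of_sq_cube (by simp only [← map_pow (algebraMap W J.ResidueField), e2]) (by simp only [← map_pow (algebraMap W J.ResidueField), e3])
      · obtain ⟨x, hx⟩ := hsub _ hbp
        obtain ⟨y, hy⟩ := hsub _ hpb
        obtain ⟨a, ⟨hap, hay⟩, -⟩ := hB.2 p hp x y (hinj (by
          rw [map_mul, map_pow, map_pow, map_natCast, hx, hy, mul_pow]))
        refine ⟨a, sub_eq_zero.1 (IsReduced.eq_zero _ ?_)⟩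
        have h0 : (p : W) * (f a - l.get i) = 0 := by
          rw [mul_sub, ← map_natCast f p, ← map_mul, ← hay, hy, map_natCast, sub_self]
        -- in every residue field the two roots agree
        rw [nilpotent_iff_mem_prime]
        intro J hJ
        rw [← Ideal.algebraMap_residueField_eq_zero, map_sub, sub_eq_zero]
        refine eq_of_pow_natMul hp ?_ ?_
        · rw [← map_pow, ← map_pow, ← map_pow, ← hap, hx]
        · rw [← sub_eq_zero, ← mul_sub, ← map_sub, ← map_natCast (algebraMap W J.ResidueField) p, ← map_mul, h0,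
            map_zero]
  obtain ⟨b, hb⟩ : w ∈ f.range := by
    have hw := hl (Finset.mem_coe.2 (Finset.mem_singleton_self w))
    clear hl
    induction hw using Algebra.adjoin_induction with
    | mem z hz =>
      obtain ⟨i, rfl⟩ := List.get_of_mem hz
      exact key i
    | algebraMap b => exact ⟨b, rfl⟩
    | add _ _ _ _ h1 h2 => exact add_mem h1 h2
    | mul _ _ _ _ h1 h2 => exact mul_mem h1 h2
  exact ⟨b, hb⟩

/-- Two absolute weak normalizations are isomorphic. -/
lemma exists_equiv_awn (φ : A →+* W) (hφ : HTop.IsRingAWN φ) :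
    ∃ e : awn A ≃+* W, e.toRingHom.comp (toAwn A) = φ := by
  obtain ⟨f, hf, -⟩ := hφ.2 _ (toAwn A) (univHomeo_toAwn A)
  obtain ⟨g, hg, -⟩ := (isRingAWN_toAwn A).2 W φ hφ.1
  obtain ⟨i, -, hi⟩ := hφ.2 W φ hφ.1
  obtain ⟨j, -, hj⟩ := (isRingAWN_toAwn A).2 _ (toAwn A) (univHomeo_toAwn A)
  refine ⟨RingEquiv.ofRingHom f g ?_ ?_, hf⟩
  · rw [hi (f.comp g) (by show (f.comp g).comp φ = φ; rw [RingHom.comp_assoc, hg, hf])]
    exact (hi (RingHom.id W) (RingHom.id_comp φ)).symm
  · rw [hj (g.comp f) (by show (g.comp f).comp (toAwn A) = toAwn A; rw [RingHom.comp_assoc, hf, hg])]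
    exact (hj (RingHom.id _) (RingHom.id_comp _)).symm

lemma univHomeo_of_comp (ψ : A →+* B) (χ : B →+* W) (hψ : FlatMor.IsUnivHomeo (Spec.map (CommRingCat.ofHom ψ)))
    (h : FlatMor.IsUnivHomeo (Spec.map (CommRingCat.ofHom (χ.comp ψ)))) :
    FlatMor.IsUnivHomeo (Spec.map (CommRingCat.ofHom χ)) := by
  have hinj : Function.Injective (PrimeSpectrum.comap ψ) := by
    rw [Groth.Agent.S0415.result] at hψ
    have := hψ.2.1
    exact (Spec.map (CommRingCat.ofHom ψ)).injective
  rw [univHomeo_iff] at h ⊢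
  refine ⟨RingHom.IsIntegral.tower_top ψ χ h.1, fun P => ?_, fun K _ g₁ g₂ hg => h.2.2 K g₁ g₂ (by
    rw [← RingHom.comp_assoc, hg, RingHom.comp_assoc])⟩
  obtain ⟨Q, hQ⟩ := h.2.1 (PrimeSpectrum.comap ψ P)
  exact ⟨Q, hinj (by rw [← hQ, PrimeSpectrum.comap_comp_apply])⟩

theorem bijective_iff_isAWNRing (φ : A →+* W) (hφ : HTop.IsRingAWN φ) (ψ : A →+* B)
    (hψ : FlatMor.IsUnivHomeo (Spec.map (CommRingCat.ofHom ψ))) (χ : B →+* W) (hχ : χ.comp ψ = φ) :
    Function.Bijective χ ↔ HTop.IsAWNRing B := by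
  obtain ⟨e, -⟩ := exists_equiv_awn φ hφ
  have hW : HTop.IsAWNRing W := isAWNRing_of_ringEquiv e (isAWNRing_awn)
  have : IsReduced W := isReduced_of_isSeminormalRing hW.1
  refine ⟨fun h => isAWNRing_of_ringEquiv (RingEquiv.ofBijective χ h).symm hW, fun h => ?_⟩
  exact bijective_of_awnRing χ h (univHomeo_of_comp ψ χ hψ (hχ ▸ hφ.1))

theorem isAWNRing_iff_perfect (p : ℕ) [Fact p.Prime] (A : Type u) [CommRing A] [Algebra (ZMod p) A] :
    HTop.IsAWNRing A ↔ PerfectRing A p := by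
  have hp : p.Prime := Fact.out
  have hp0 : (p : A) = 0 := by rw [← map_natCast (algebraMap (ZMod p) A), ZMod.natCast_self, map_zero]
  constructor
  · intro h
    refine ⟨fun a b (hab : a ^ p = b ^ p) => ?_, fun x => ?_⟩
    · obtain ⟨c, -, hc⟩ := h.2 p hp (a ^ p) 0 (by rw [hp0, zero_pow hp.ne_zero, zero_mul])
      exact (hc a ⟨rfl, by rw [hp0, zero_mul]⟩).trans (hc b ⟨hab, by rw [hp0, zero_mul]⟩).symm
    · obtain ⟨c, ⟨hc, -⟩, -⟩ := h.2 p hp x 0 (by rw [hp0, zero_pow hp.ne_zero, zero_mul])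
      exact ⟨c, hc.symm⟩
  · intro hperf
    obtain ⟨hinj, hsurj⟩ := hperf.bijective_frobenius
    refine ⟨fun x y h => ?_, fun q hq x y h => ?_⟩
    · obtain ⟨i, j, hij⟩ : ∃ i j, p = 2 * i + 3 * j := by
        rcases Nat.even_or_odd p with ⟨m, hm⟩ | ⟨m, hm⟩
        · exact ⟨m, 0, by omega⟩
        · exact ⟨m - 1, 1, by have := hp.two_le; omega⟩
      obtain ⟨a, ha : a ^ p = x ^ i * y ^ j⟩ := hsurj (x ^ i * y ^ j)
      refine ⟨a, ⟨hinj ?_, hinj ?_⟩, fun b hb => hinj ?_⟩
      · show x ^ p = (a ^ 2) ^ p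
        rw [← pow_mul, mul_comm 2 p, pow_mul, ha, mul_pow, ← pow_mul y, mul_comm j 2, pow_mul y, ← h, hij, pow_add]
        ring
      · show y ^ p = (a ^ 3) ^ p
        rw [← pow_mul, mul_comm 3 p, pow_mul, ha, mul_pow, ← pow_mul x, mul_comm i 3, pow_mul x, h, hij, pow_add]
        ring
      · show b ^ p = a ^ p
        rw [ha, hb.1, hb.2, hij, pow_add]
        ring
    · by_cases hqp : q = p
      · subst hqp
        rw [hp0, zero_pow hp.ne_zero, zero_mul] at h
        have hy : y = 0 := hinj (show y ^ q = 0 ^ q by rw [← h, zero_pow hp.ne_zero])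
        obtain ⟨a, ha : a ^ q = x⟩ := hsurj x
        exact ⟨a, ⟨ha.symm, by rw [hy, hp0, zero_mul]⟩, fun b hb => hinj (show b ^ q = a ^ q by rw [ha, hb.1])⟩
      · have hu : IsUnit (q : A) := by
          have h1 : (q : ZMod p) ≠ 0 := by
            rw [Ne, ZMod.natCast_eq_zero_iff]
            exact fun hd => hqp ((Nat.prime_dvd_prime_iff_eq hp hq).1 hd).symm
          simpa using (isUnit_iff_ne_zero.2 h1).map (algebraMap (ZMod p) A)
        obtain ⟨u, hu⟩ := hu
        refine ⟨↑u⁻¹ * y, ⟨?_, ?_⟩, fun b hb => ?_⟩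
        · rw [mul_pow, ← h, ← hu, ← mul_assoc, ← mul_pow, Units.inv_mul, one_pow, one_mul]
        · rw [← hu, ← mul_assoc, Units.mul_inv, one_mul]
        · rw [hb.2, ← hu, ← mul_assoc, Units.inv_mul, one_mul]

end AWNLib
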