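import Groth.Agent.AWNLib.Char

/-!
# Seminormality and absolute weak normality are local
-/

universe u

namespace AWNLib

variable {A : Type u} [CommRing A]

lemma diag_injective [IsReduced A] : Function.Injective (diag A) :=
  (injective_iff_map_eq_zero _).2 fun a ha => by
    refine IsReduced.eq_zero _ ?_
    rw [nilpotent_iff_mem_prime]
    exact fun J hJ => diag_ker_le A ⟨J, hJ⟩ (RingHom.mem_ker.2 ha)

lemma mem_range_of_local (c : Amb A) (s : Set A) (hs : Ideal.span s = ⊤)
    (h : ∀ f ∈ s, ∃ (n : ℕ) (b : A), diag A f ^ n * c = diag A b) : ∃ a, diag A a = c := by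
  let I : Ideal A :=
    { carrier := {r | ∃ b, diag A r * c = diag A b}
      add_mem' := fun {r t} ⟨b, hb⟩ ⟨d, hd⟩ => ⟨b + d, by rw [map_add, map_add, add_mul, hb, hd]⟩
      zero_mem' := ⟨0, by rw [map_zero, zero_mul]⟩
      smul_mem' := fun r t ⟨b, hb⟩ => ⟨r * b, by rw [smul_eq_mul, map_mul, map_mul, mul_assoc, hb]⟩ }
  have : I.radical = ⊤ := by
    rw [← top_le_iff, ← hs, Ideal.span_le]
    intro f hf
    obtain ⟨n, b, hb⟩ := h f hf
    exact ⟨n, b, by rw [map_pow]; exact hb⟩
  obtain ⟨b, hb⟩ := (Ideal.radical_eq_top.1 this ▸ Submodule.mem_top : (1 : A) ∈ I)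
  exact ⟨b, by rw [← hb, map_one, one_mul]⟩

lemma eq_of_pow_natMul_reduced {R : Type u} [CommRing R] [IsReduced R] {p : ℕ} (hp : p.Prime) {a b : R}
    (h1 : a ^ p = b ^ p) (h2 : (p : R) * a = (p : R) * b) : a = b := by
  refine sub_eq_zero.1 (IsReduced.eq_zero _ ?_)
  rw [nilpotent_iff_mem_prime]
  intro J hJ
  rw [← Ideal.algebraMap_residueField_eq_zero, map_sub, sub_eq_zero]
  refine eq_of_pow_natMul hp ?_ ?_
  · rw [← map_pow, ← map_pow, h1]
  · rw [← map_natCast (algebraMap R J.ResidueField) p, ← map_mul, ← map_mul, h2]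

lemma eq_of_sq_cube_reduced {R : Type u} [CommRing R] [IsReduced R] {a b : R}
    (h2 : a ^ 2 = b ^ 2) (h3 : a ^ 3 = b ^ 3) : a = b := by
  refine sub_eq_zero.1 (IsReduced.eq_zero _ ?_)
  rw [nilpotent_iff_mem_prime]
  intro J hJ
  rw [← Ideal.algebraMap_residueField_eq_zero, map_sub, sub_eq_zero]
  exact eq_of_sq_cube (by rw [← map_pow, ← map_pow, h2]) (by rw [← map_pow, ← map_pow, h3])

lemma isSeminormalRing_localization (M : Submonoid A) (L : Type u) [CommRing L] [Algebra A L]
    [IsLocalization M L] (h : HTop.IsSeminormalRing A) : HTop.IsSeminormalRing L := by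
  have := isReduced_of_isSeminormalRing h
  have : IsReduced L := isReduced_localizationPreserves M L ‹_›
  intro x y hxy
  obtain ⟨a, s, rfl⟩ := IsLocalization.exists_mk'_eq M x
  obtain ⟨b, t, rfl⟩ := IsLocalization.exists_mk'_eq M y
  let ι := algebraMap A L
  have hs := IsLocalization.mk'_spec L a s
  have ht := IsLocalization.mk'_spec L b t
  set X := IsLocalization.mk' L a s
  set Y := IsLocalization.mk' L b t
  -- clear denominators
  have e1 : ι ((a * (s : A) * (t : A) ^ 2) ^ 3) = ι ((b * (s : A) ^ 3 * (t : A) ^ 2) ^ 2) := by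
    simp only [map_pow, map_mul, ι, ← hs, ← ht, mul_pow, hxy]
    ring
  obtain ⟨v, hv⟩ := (IsLocalization.eq_iff_exists M L).1 e1
  obtain ⟨c, ⟨hc2, hc3⟩, -⟩ := h (a * (s : A) * (t : A) ^ 2 * (v : A) ^ 2) (b * (s : A) ^ 3 * (t : A) ^ 2 * (v : A) ^ 3)
    (by linear_combination (v : A) ^ 5 * hv)
  have hu : IsUnit (ι ((s : A) * (t : A) * (v : A))) :=
    IsLocalization.map_units L (s * t * v)
  obtain ⟨u, hu'⟩ := hu
  refine ⟨↑u⁻¹ * ι c, ⟨?_, ?_⟩, fun z hz => eq_of_sq_cube_reduced ?_ ?_⟩
  rotate_left 2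
  · rw [← hz.1]
    rw [mul_pow, ← map_pow, ← hc2]
    apply (u ^ 2).isUnit.mul_left_cancel
    rw [← mul_assoc, Units.val_pow_eq_pow_val, ← mul_pow, Units.mul_inv, one_pow, one_mul, hu']
    simp only [map_pow, map_mul, ι, ← hs]
    ring
  · rw [← hz.2]
    rw [mul_pow, ← map_pow, ← hc3]
    apply (u ^ 3).isUnit.mul_left_cancel
    rw [← mul_assoc, Units.val_pow_eq_pow_val, ← mul_pow, Units.mul_inv, one_pow, one_mul, hu']
    simp only [map_pow, map_mul, ι, ← ht]
    ring
  · rw [mul_pow, ← map_pow, ← hc2]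
    apply (u ^ 2).isUnit.mul_left_cancel
    rw [← mul_assoc, Units.val_pow_eq_pow_val, ← mul_pow, Units.mul_inv, one_pow, one_mul, hu']
    simp only [map_pow, map_mul, ι, ← hs]
    ring
  · rw [mul_pow, ← map_pow, ← hc3]
    apply (u ^ 3).isUnit.mul_left_cancel
    rw [← mul_assoc, Units.val_pow_eq_pow_val, ← mul_pow, Units.mul_inv, one_pow, one_mul, hu']
    simp only [map_pow, map_mul, ι, ← ht]
    ring

lemma isAWNRing_localization (M : Submonoid A) (L : Type u) [CommRing L] [Algebra A L]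
    [IsLocalization M L] (h : HTop.IsAWNRing A) : HTop.IsAWNRing L := by
  refine ⟨isSeminormalRing_localization M L h.1, fun p hp x y hxy => ?_⟩
  have := isReduced_of_isSeminormalRing h.1
  have : IsReduced L := isReduced_localizationPreserves M L ‹_›
  obtain ⟨m, hm⟩ := Nat.exists_eq_add_of_le hp.one_lt.le
  obtain ⟨a, s, rfl⟩ := IsLocalization.exists_mk'_eq M x
  obtain ⟨b, t, rfl⟩ := IsLocalization.exists_mk'_eq M y
  let ι := algebraMap A L
  have hs := IsLocalization.mk'_spec L a s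
  have ht := IsLocalization.mk'_spec L b t
  set X := IsLocalization.mk' L a s
  set Y := IsLocalization.mk' L b t
  have e1 : ι ((p : A) ^ p * (a * (s : A) ^ m * (t : A) ^ p)) = ι ((b * (s : A)) ^ p) := by
    simp only [map_pow, map_mul, map_natCast, ι, ← hs, ← ht, mul_pow]
    rw [← hxy, show (algebraMap A L (s : A)) ^ p = algebraMap A L s * algebraMap A L s ^ m by rw [hm, pow_add, pow_one]]
    ring
  obtain ⟨v, hv⟩ := (IsLocalization.eq_iff_exists M L).1 e1
  obtain ⟨c, ⟨hcp, hcy⟩, -⟩ := h.2 p hp (a * (s : A) ^ m * (t : A) ^ p * (v : A) ^ p) (b * (s : A) * (v : A))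
    (by rw [mul_pow, show (v : A) ^ p = v * (v : A) ^ m by rw [hm, pow_add, pow_one]]
        linear_combination (v : A) ^ m * hv)
  obtain ⟨u, hu'⟩ := IsLocalization.map_units L (s * t * v)
  have k1 : X = (↑u⁻¹ * ι c) ^ p := by
    rw [mul_pow, ← map_pow, ← hcp]
    apply (u ^ p).isUnit.mul_left_cancel
    rw [← mul_assoc, Units.val_pow_eq_pow_val, ← mul_pow, Units.mul_inv, one_pow, one_mul, hu']
    simp only [map_pow, map_mul, ι, ← hs, Submonoid.coe_mul, mul_pow]
    rw [show (algebraMap A L (s : A)) ^ p = algebraMap A L s * algebraMap A L s ^ m by rw [hm, pow_add, pow_one]]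
    ring
  have k2 : Y = (p : L) * (↑u⁻¹ * ι c) := by
    rw [mul_left_comm, ← map_natCast ι p, ← map_mul, ← hcy]
    apply u.isUnit.mul_left_cancel
    rw [← mul_assoc, Units.mul_inv, one_mul, hu']
    simp only [map_mul, ι, ← ht, Submonoid.coe_mul]
    ring
  exact ⟨_, ⟨k1, k2⟩, fun z hz => eq_of_pow_natMul_reduced hp (hz.1.symm.trans k1) (hz.2.symm.trans k2)⟩

lemma isReduced_of_span (s : Finset A) (hs : Ideal.span (s : Set A) = ⊤)
    (h : ∀ f ∈ s, IsReduced (Localization.Away f)) : IsReduced A := by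
  refine ⟨fun x hx => ?_⟩
  let I : Ideal A :=
    { carrier := {r | r * x = 0}
      add_mem' := fun {r t} (hr : r * x = 0) (ht : t * x = 0) => show (r + t) * x = 0 by rw [add_mul, hr, ht, add_zero]
      zero_mem' := zero_mul x
      smul_mem' := fun r t (ht : t * x = 0) => show r * t * x = 0 by rw [mul_assoc, ht, mul_zero] }
  have : I.radical = ⊤ := by
    rw [← top_le_iff, ← hs, Ideal.span_le]
    intro f hf
    have := h f hf
    obtain ⟨⟨_, n, rfl⟩, hn⟩ := (IsLocalization.map_eq_zero_iff (Submonoid.powers f) (Localization.Away f) x).1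
      ((hx.map (algebraMap A (Localization.Away f))).eq_zero)
    exact ⟨n, hn⟩
  have : (1 : A) * x = 0 := (Ideal.radical_eq_top.1 this ▸ Submodule.mem_top : (1 : A) ∈ I)
  rwa [one_mul] at this

/-- Evaluation at a point. -/
noncomputable def ev (P : PrimeSpectrum A) : A →+* AlgebraicClosure P.asIdeal.ResidueField :=
  (Pi.evalRingHom _ P).comp (diag A)

lemma ev_apply (P : PrimeSpectrum A) (a : A) : diag A a P = ev P a := rfl

/-- An element of the product of closed fields which locally comes from `A` does so globally. -/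
lemma exists_of_local_eq (c : Amb A) (s : Finset A) (hs : Ideal.span (s : Set A) = ⊤)
    (h : ∀ f ∈ s, ∃ z : Localization.Away f, ∀ (P : PrimeSpectrum A) (hP : IsUnit (ev P f)),
      IsLocalization.Away.lift f (g := ev P) hP z = c P) : ∃ a, diag A a = c := by
  refine mem_range_of_local c s hs fun f hf => ?_
  obtain ⟨z, hz⟩ := h f hf
  obtain ⟨n, b, hb⟩ := IsLocalization.Away.surj f z
  refine ⟨n + 1, b * f, funext fun P => ?_⟩
  rw [map_mul, Pi.mul_apply, Pi.mul_apply, Pi.pow_apply, ev_apply, ev_apply]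
  by_cases hP : ev P f = 0
  · rw [hP, zero_pow (Nat.succ_ne_zero n), zero_mul, mul_zero]
  · have := congrArg (IsLocalization.Away.lift f (g := ev P) (Ne.isUnit hP)) hb
    rw [map_mul, map_pow, hz, IsLocalization.Away.lift_eq, IsLocalization.Away.lift_eq] at this
    rw [← this, pow_succ]
    ring

theorem isSeminormalRing_of_span (s : Finset A) (hs : Ideal.span (s : Set A) = ⊤)
    (h : ∀ f ∈ s, HTop.IsSeminormalRing (Localization.Away f)) : HTop.IsSeminormalRing A := by
  have := isReduced_of_span s hs fun f hf => isReduced_of_isSeminormalRing (h f hf)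
  intro x y hxy
  have hP : ∀ P, ∃ w, diag A x P = w ^ 2 ∧ diag A y P = w ^ 3 := by
    intro P
    have e : diag A x P ^ 3 = diag A y P ^ 2 := congrFun (by rw [← map_pow, ← map_pow, hxy] : diag A x ^ 3 = diag A y ^ 2) P
    by_cases hx : diag A x P = 0
    · rw [hx, zero_pow three_ne_zero, eq_comm, pow_eq_zero_iff two_ne_zero] at e
      exact ⟨0, by rw [hx, zero_pow two_ne_zero], by rw [e, zero_pow three_ne_zero]⟩
    · refine ⟨diag A y P / diag A x P, ?_, ?_⟩
      · rw [div_pow, ← e]
        field_simp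
      · rw [div_pow, e]
        field_simp
  choose c hc2 hc3 using hP
  obtain ⟨a, ha⟩ := exists_of_local_eq c s hs fun f hf => by
    obtain ⟨z, ⟨hz2, hz3⟩, -⟩ := h f hf (algebraMap A _ x) (algebraMap A _ y) (by rw [← map_pow, ← map_pow, hxy])
    refine ⟨z, fun P hu => eq_of_sq_cube ?_ ?_⟩
    · rw [← map_pow, ← hz2, IsLocalization.Away.lift_eq, ← hc2, ev_apply]
    · rw [← map_pow, ← hz3, IsLocalization.Away.lift_eq, ← hc3, ev_apply]
  have a2 : x = a ^ 2 := diag_injective (funext fun P => by rw [map_pow, Pi.pow_apply, ha]; exact hc2 P)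
  have a3 : y = a ^ 3 := diag_injective (funext fun P => by rw [map_pow, Pi.pow_apply, ha]; exact hc3 P)
  exact ⟨a, ⟨a2, a3⟩, fun b hb => eq_of_sq_cube_reduced (hb.1.symm.trans a2) (hb.2.symm.trans a3)⟩

theorem isAWNRing_of_span (s : Finset A) (hs : Ideal.span (s : Set A) = ⊤)
    (h : ∀ f ∈ s, HTop.IsAWNRing (Localization.Away f)) : HTop.IsAWNRing A := by
  have := isReduced_of_span s hs fun f hf => isReduced_of_isSeminormalRing (h f hf).1
  refine ⟨isSeminormalRing_of_span s hs fun f hf => (h f hf).1, fun p hp x y hxy => ?_⟩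
  have hP : ∀ P, ∃ w, diag A x P = w ^ p ∧ diag A y P = (p : AlgebraicClosure P.asIdeal.ResidueField) * w := by
    intro P
    have e : (p : AlgebraicClosure P.asIdeal.ResidueField) ^ p * diag A x P = diag A y P ^ p := by
      have := congrFun (congrArg (diag A) hxy) P
      simpa using this
    by_cases h0 : (p : AlgebraicClosure P.asIdeal.ResidueField) = 0
    · obtain ⟨w, hw⟩ := IsAlgClosed.exists_pow_nat_eq (diag A x P) hp.pos
      rw [h0, zero_pow hp.ne_zero, zero_mul, eq_comm, pow_eq_zero_iff hp.ne_zero] at e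
      exact ⟨w, hw.symm, by rw [e, h0, zero_mul]⟩
    · refine ⟨diag A y P / p, ?_, ?_⟩
      · rw [div_pow, ← e, mul_div_cancel_left₀ _ (pow_ne_zero p h0)]
      · rw [mul_div_cancel₀ _ h0]
  choose c hcp hcy using hP
  obtain ⟨a, ha⟩ := exists_of_local_eq c s hs fun f hf => by
    obtain ⟨z, ⟨hzp, hzy⟩, -⟩ := (h f hf).2 p hp (algebraMap A _ x) (algebraMap A _ y)
      (by rw [← map_natCast (algebraMap A (Localization.Away f)) p, ← map_pow, ← map_mul, ← map_pow, hxy])
    refine ⟨z, fun P hu => eq_of_pow_natMul hp ?_ ?_⟩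
    · rw [← map_pow, ← hzp, IsLocalization.Away.lift_eq, ← hcp, ev_apply]
    · rw [← hcy, ← map_natCast (IsLocalization.Away.lift f (S := Localization.Away f) (g := ev P) hu) p, ← map_mul,
        ← hzy, IsLocalization.Away.lift_eq, ev_apply]
  have ap : x = a ^ p := diag_injective (funext fun P => by rw [map_pow, Pi.pow_apply, ha]; exact hcp P)
  have ay : y = (p : A) * a := diag_injective (funext fun P => by
    rw [map_mul, map_natCast, Pi.mul_apply, ha]; exact hcy P)
  exact ⟨a, ⟨ap, ay⟩, fun b hb => eq_of_pow_natMul_reduced hp (hb.1.symm.trans ap) (hb.2.symm.trans ay)⟩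

end AWNLib
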