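import Groth.Agent.AWNLib.Char
import Groth.Agent.AWNLib.Local
import Mathlib.Algebra.Category.Ring.Constructions
import Mathlib.AlgebraicGeometry.Pullbacks
import Mathlib.RingTheory.TensorProduct.Basic
import Mathlib.RingTheory.IsTensorProduct

/-!
# Functoriality and localisation of absolute weak normalization
-/

universe u

open AlgebraicGeometry CategoryTheory TensorProduct

namespace AWNLib

variable {A B W : Type u} [CommRing A] [CommRing B] [CommRing W]

theorem ringHom_ext_reduced [IsReduced W] (φ : A →+* B)
    (hφ : FlatMor.IsUnivHomeo (Spec.map (CommRingCat.ofHom φ))) {g₁ g₂ : B →+* W}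
    (h : g₁.comp φ = g₂.comp φ) : g₁ = g₂ := by
  refine RingHom.ext fun b => sub_eq_zero.1 (IsReduced.eq_zero _ ?_)
  rw [nilpotent_iff_mem_prime]
  intro J hJ
  rw [← Ideal.algebraMap_residueField_eq_zero, map_sub, sub_eq_zero]
  have := ((univHomeo_iff φ).1 hφ).2.2 J.ResidueField ((algebraMap W _).comp g₁) ((algebraMap W _).comp g₂)
    (by rw [RingHom.comp_assoc, h, RingHom.comp_assoc])
  exact DFunLike.congr_fun this b

theorem univHomeo_of_isPushout {A B C P : CommRingCat.{u}} {f : A ⟶ B} {g : A ⟶ C} {inl : B ⟶ P}
    {inr : C ⟶ P} (h : IsPushout f g inl inr) (hf : FlatMor.IsUnivHomeo (Spec.map f)) :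
    FlatMor.IsUnivHomeo (Spec.map inr) := by
  have : MorphismProperty.IsStableUnderBaseChange FlatMor.IsUnivHomeo.{u} :=
    MorphismProperty.universally_isStableUnderBaseChange _
  exact MorphismProperty.of_isPullback (isPullback_SpecMap_of_isPushout f g inl inr h) hf

theorem univHomeo_includeRight [Algebra A B] [Algebra A W]
    (h : FlatMor.IsUnivHomeo (Spec.map (CommRingCat.ofHom (algebraMap A B)))) :
    FlatMor.IsUnivHomeo (Spec.map (CommRingCat.ofHom
      (Algebra.TensorProduct.includeRight (R := A) (A := B) (B := W)).toRingHom)) :=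
  univHomeo_of_isPushout (CommRingCat.isPushout_tensorProduct A B W) h

theorem isReduced_awn : IsReduced (awn A) := isReduced_of_isSeminormalRing isAWNRing_awn.1

theorem exists_awnMap (f : A →+* B) :
    ∃ F : awn A →+* awn B, F.comp (toAwn A) = (toAwn B).comp f := by
  let _ : Algebra A B := f.toAlgebra
  let _ : Algebra A (awn A) := (toAwn A).toAlgebra
  obtain ⟨χ, hχ, -⟩ := (isRingAWN_toAwn B).2 (awn A ⊗[A] B)
    (Algebra.TensorProduct.includeRight (R := A) (A := awn A) (B := B)).toRingHom
    (univHomeo_includeRight (univHomeo_toAwn A))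
  refine ⟨χ.comp Algebra.TensorProduct.includeLeftRingHom, RingHom.ext fun a => ?_⟩
  have := DFunLike.congr_fun hχ (f a)
  rw [RingHom.comp_apply] at this
  rw [RingHom.comp_apply, RingHom.comp_apply, RingHom.comp_apply, ← this]
  congr 1
  show (algebraMap A (awn A) a) ⊗ₜ[A] (1 : B) = (1 : awn A) ⊗ₜ[A] algebraMap A B a
  rw [Algebra.algebraMap_eq_smul_one, Algebra.algebraMap_eq_smul_one, TensorProduct.smul_tmul]

/-- Functoriality of the absolute weak normalization. -/
noncomputable def awnMap (f : A →+* B) : awn A →+* awn B := (exists_awnMap f).choose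

theorem awnMap_comp_toAwn (f : A →+* B) : (awnMap f).comp (toAwn A) = (toAwn B).comp f :=
  (exists_awnMap f).choose_spec

theorem awnMap_unique {f : A →+* B} {F : awn A →+* awn B}
    (h : F.comp (toAwn A) = (toAwn B).comp f) : F = awnMap f :=
  have := isReduced_awn (A := B)
  ringHom_ext_reduced (toAwn A) (univHomeo_toAwn A) (h.trans (awnMap_comp_toAwn f).symm)

theorem awnMap_id : awnMap (RingHom.id A) = RingHom.id (awn A) :=
  (awnMap_unique (by rw [RingHom.id_comp, RingHom.comp_id])).symm

theorem awnMap_comp {C : Type u} [CommRing C] (f : A →+* B) (g : B →+* C) :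
    awnMap (g.comp f) = (awnMap g).comp (awnMap f) :=
  (awnMap_unique (by
    rw [RingHom.comp_assoc, awnMap_comp_toAwn, ← RingHom.comp_assoc, awnMap_comp_toAwn,
      RingHom.comp_assoc])).symm

/-- Absolute weak normalization commutes with localisation. -/
theorem isLocalization_awnMap (r : A) [Algebra A B] [IsLocalization.Away r B] :
    letI := (awnMap (algebraMap A B)).toAlgebra
    IsLocalization.Away (toAwn A r) (awn B) := by
  letI := (awnMap (algebraMap A B)).toAlgebra
  letI : Algebra A (awn A) := (toAwn A).toAlgebra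
  let L := Localization.Away (toAwn A r)
  have hu : IsUnit ((algebraMap (awn A) L).comp (toAwn A) r) := IsLocalization.Away.algebraMap_isUnit (toAwn A r)
  letI : Algebra B L := (IsLocalization.Away.lift r hu).toAlgebra
  have : IsScalarTower A B L := IsScalarTower.of_algebraMap_eq fun x =>
    (IsLocalization.Away.lift_eq r hu x).symm
  have : IsLocalization (Algebra.algebraMapSubmonoid (awn A) (Submonoid.powers r)) L := by
    rw [show Algebra.algebraMapSubmonoid (awn A) (Submonoid.powers r) = Submonoid.powers (toAwn A r) from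
      Submonoid.map_powers _ _]
    infer_instance
  have hP : Algebra.IsPushout A (awn A) B L := Algebra.isPushout_of_isLocalization (Submonoid.powers r) B (awn A) L
  have hψ : FlatMor.IsUnivHomeo (Spec.map (CommRingCat.ofHom (algebraMap B L))) :=
    univHomeo_of_isPushout ((CommRingCat.isPushout_iff_isPushout (R := A) (S := B) (R' := awn A) (S' := L)).2 hP)
      (univHomeo_toAwn A)
  obtain ⟨χ, hχ, -⟩ := (isRingAWN_toAwn B).2 L (algebraMap B L) hψ
  have hbij : Function.Bijective χ := (bijective_iff_isAWNRing (toAwn B) (isRingAWN_toAwn B) (algebraMap B L) hψ χ hχ).2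
    (isAWNRing_localization (Submonoid.powers (toAwn A r)) L isAWNRing_awn)
  have hcomm : χ.comp (algebraMap (awn A) L) = awnMap (algebraMap A B) := awnMap_unique (RingHom.ext fun x => by
    have := DFunLike.congr_fun hχ (algebraMap A B x)
    rw [RingHom.comp_apply, ← IsScalarTower.algebraMap_apply] at this
    exact this)
  let e : L ≃ₐ[awn A] awn B := AlgEquiv.ofRingEquiv (f := RingEquiv.ofBijective χ hbij)
    fun x => DFunLike.congr_fun hcomm x
  exact IsLocalization.isLocalization_of_algEquiv (Submonoid.powers (toAwn A r)) e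

end AWNLib
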