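import Groth.Agent.AWNLib.Basic

/-!
# The absolute weak normalization is absolutely weakly normal
-/

universe u

open AlgebraicGeometry CategoryTheory

namespace AWNLib

variable {A : Type u} [CommRing A]

/-- A universal homeomorphism inside the ambient product containing the AWN equals it. -/
lemma le_awn (C : Subring (Amb A)) (h : ∀ a, diag A a ∈ C)
    (hu : FlatMor.IsUnivHomeo (Spec.map (CommRingCat.ofHom ((diag A).codRestrict C h)))) : C ≤ awn A :=
  fun _ hz => Subring.subset_closure (Or.inr ⟨C, h, hu, hz⟩)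

/-- An element integral over the AWN and determined in every field lies in it. -/
lemma mem_awn (r : Amb A) (n : ℕ) (hn : 0 < n) (hr : r ^ n ∈ awn A)
    (huniq : ∀ (K : Type u) [Field K] (g₁ g₂ : Subring.closure ((awn A : Set (Amb A)) ∪ {r}) →+* K),
      (∀ z (hz : z ∈ awn A), g₁ ⟨z, Subring.subset_closure (Or.inl hz)⟩ = g₂ ⟨z, Subring.subset_closure (Or.inl hz)⟩) →
      g₁ ⟨r, Subring.subset_closure (Or.inr rfl)⟩ = g₂ ⟨r, Subring.subset_closure (Or.inr rfl)⟩) :
    r ∈ awn A := by
  let D := Subring.closure ((awn A : Set (Amb A)) ∪ {r})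
  have hd : ∀ a, diag A a ∈ D := fun a => Subring.subset_closure (Or.inl (diag_mem A a))
  suffices hu : FlatMor.IsUnivHomeo (Spec.map (CommRingCat.ofHom ((diag A).codRestrict D hd))) from
    le_awn D hd hu (Subring.subset_closure (Or.inr rfl))
  obtain ⟨hint, -, hW⟩ := (univHomeo_iff _).1 (univHomeo_toAwn A)
  letI : Algebra A (Amb A) := (diag A).toAlgebra
  have hWint : ∀ z ∈ awn A, IsIntegral A z := fun z hz => by
    obtain ⟨P, hP, hP0⟩ := hint ⟨z, hz⟩
    refine ⟨P, hP, ?_⟩
    have := congrArg (awn A).subtype hP0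
    rw [Polynomial.hom_eval₂, map_zero] at this
    exact this
  rw [univHomeo_iff]
  refine ⟨?_, surjective_comap A D hd, fun K _ g₁ g₂ h => ?_⟩
  · have key : D ≤ (integralClosure A (Amb A)).toSubring := by
      refine Subring.closure_le.2 ?_
      rintro x (hx | rfl)
      · exact hWint x hx
      · exact IsIntegral.of_pow hn (hWint _ hr)
    intro x
    obtain ⟨P, hP, hP0⟩ := key x.2
    refine ⟨P, hP, Subtype.ext ?_⟩
    show D.subtype (Polynomial.eval₂ ((diag A).codRestrict D hd) x P) = 0
    rw [Polynomial.hom_eval₂]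
    exact hP0
  · have hle : awn A ≤ D := fun z hz => Subring.subset_closure (Or.inl hz)
    have hagree : ∀ z (hz : z ∈ awn A), g₁ ⟨z, hle hz⟩ = g₂ ⟨z, hle hz⟩ := fun z hz =>
      DFunLike.congr_fun (hW K (g₁.comp (Subring.inclusion hle)) (g₂.comp (Subring.inclusion hle))
        (RingHom.ext fun a => DFunLike.congr_fun h a)) ⟨z, hz⟩
    let E : Subring D := RingHom.eqLocus g₁ g₂
    suffices E = ⊤ from RingHom.ext fun x => (show x ∈ E from this ▸ Subring.mem_top x)
    refine (Subring.eq_top_iff' _).2 fun ⟨x, hx⟩ => ?_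
    induction hx using Subring.closure_induction with
    | mem y hy =>
      rcases hy with hy | rfl
      · exact hagree y hy
      · exact huniq K g₁ g₂ hagree
    | zero => exact E.zero_mem
    | one => exact E.one_mem
    | add y z _ _ hy hz => exact E.add_mem hy hz
    | neg y _ hy => exact E.neg_mem hy
    | mul y z _ _ hy hz => exact E.mul_mem hy hz

lemma eq_of_sq_cube {K : Type u} [Field K] {a b : K} (h2 : a ^ 2 = b ^ 2) (h3 : a ^ 3 = b ^ 3) : a = b := by
  rcases eq_or_ne a 0 with rfl | ha
  · exact ((pow_eq_zero_iff two_ne_zero).1 (h2.symm.trans (zero_pow two_ne_zero))).symm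
  · refine mul_left_cancel₀ (pow_ne_zero 2 ha) ?_
    calc a ^ 2 * a = a ^ 3 := by ring
      _ = b ^ 3 := h3
      _ = b ^ 2 * b := by ring
      _ = a ^ 2 * b := by rw [h2]

lemma eq_of_pow_natMul {K : Type u} [Field K] {p : ℕ} (hp : p.Prime) {a b : K} (h1 : a ^ p = b ^ p)
    (h2 : (p : K) * a = (p : K) * b) : a = b := by
  by_cases h0 : (p : K) = 0
  · have : CharP K p := (CharP.charP_iff_prime_eq_zero hp).2 h0
    haveI := Fact.mk hp
    exact frobenius_inj K p h1
  · exact mul_left_cancel₀ h0 h2

theorem isAWNRing_awn : HTop.IsAWNRing (awn A) := by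
  refine ⟨fun x y h => ?_, fun p hp x y h => ?_⟩
  · have hex : ∀ q, ∃ a : AlgebraicClosure q.asIdeal.ResidueField,
        (x : Amb A) q = a ^ 2 ∧ (y : Amb A) q = a ^ 3 := fun q => by
      have h' : (x : Amb A) q ^ 3 = (y : Amb A) q ^ 2 := congrFun (congrArg Subtype.val h) q
      rcases eq_or_ne ((x : Amb A) q) 0 with hx | hx
      · rw [hx, zero_pow three_ne_zero, eq_comm, pow_eq_zero_iff two_ne_zero] at h'
        exact ⟨0, by simp [hx], by simp [h']⟩
      · refine ⟨(y : Amb A) q / (x : Amb A) q, ?_, ?_⟩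
        · rw [div_pow, ← h']; field_simp
        · rw [div_pow, pow_succ ((y : Amb A) q) 2, ← h']; field_simp
    choose a ha2 ha3 using hex
    have e2 : a ^ 2 = (x : Amb A) := funext fun q => (ha2 q).symm
    have e3 : a ^ 3 = (y : Amb A) := funext fun q => (ha3 q).symm
    have hm : a ∈ awn A := mem_awn a 2 two_pos (e2 ▸ x.2) fun K _ g₁ g₂ hg => by
      refine eq_of_sq_cube ?_ ?_
      · rw [← map_pow, ← map_pow]
        exact (congrArg g₁ (Subtype.ext e2)).trans ((hg _ x.2).trans (congrArg g₂ (Subtype.ext e2.symm)))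
      · rw [← map_pow, ← map_pow]
        exact (congrArg g₁ (Subtype.ext e3)).trans ((hg _ y.2).trans (congrArg g₂ (Subtype.ext e3.symm)))
    refine ⟨⟨a, hm⟩, ⟨Subtype.ext e2.symm, Subtype.ext e3.symm⟩, fun b hb => Subtype.ext (funext fun q => ?_)⟩
    exact eq_of_sq_cube ((congrFun (congrArg Subtype.val hb.1) q).symm.trans (ha2 q))
      ((congrFun (congrArg Subtype.val hb.2) q).symm.trans (ha3 q))
  · have hex : ∀ q, ∃ a : AlgebraicClosure q.asIdeal.ResidueField,
        (x : Amb A) q = a ^ p ∧ (y : Amb A) q = (p : AlgebraicClosure q.asIdeal.ResidueField) * a := fun q => by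
      have h' : (p : AlgebraicClosure q.asIdeal.ResidueField) ^ p * (x : Amb A) q = (y : Amb A) q ^ p := by
        have := congrFun (congrArg Subtype.val h) q
        simpa using this
      by_cases h0 : (p : AlgebraicClosure q.asIdeal.ResidueField) = 0
      · rw [h0, zero_pow hp.ne_zero, zero_mul, eq_comm, pow_eq_zero_iff hp.ne_zero] at h'
        obtain ⟨a, ha⟩ := IsAlgClosed.exists_pow_nat_eq ((x : Amb A) q) hp.pos
        exact ⟨a, ha.symm, by rw [h', h0, zero_mul]⟩
      · refine ⟨(y : Amb A) q / (p : AlgebraicClosure q.asIdeal.ResidueField), ?_, ?_⟩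
        · rw [div_pow, ← h']; field_simp
        · field_simp
    choose a hap hay using hex
    have ep : a ^ p = (x : Amb A) := funext fun q => (hap q).symm
    have ey : (p : Amb A) * a = (y : Amb A) := funext fun q => (hay q).symm
    have hm : a ∈ awn A := mem_awn a p hp.pos (ep ▸ x.2) fun K _ g₁ g₂ hg => by
      refine eq_of_pow_natMul hp ?_ ?_
      · rw [← map_pow, ← map_pow]
        exact (congrArg g₁ (Subtype.ext ep)).trans ((hg _ x.2).trans (congrArg g₂ (Subtype.ext ep.symm)))
      · rw [← map_natCast g₁ p, ← map_mul]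
        conv_rhs => rw [map_natCast g₁ p, ← map_natCast g₂ p, ← map_mul]
        refine (congrArg g₁ (Subtype.ext ?_)).trans ((hg _ y.2).trans (congrArg g₂ (Subtype.ext ?_)))
        · simpa using ey
        · simpa using ey.symm
    refine ⟨⟨a, hm⟩, ⟨Subtype.ext ep.symm, Subtype.ext ?_⟩, fun b hb => Subtype.ext (funext fun q => ?_)⟩
    · simpa using ey.symm
    · refine eq_of_pow_natMul hp ((congrFun (congrArg Subtype.val hb.1) q).symm.trans (hap q)) ?_
      have := congrFun (congrArg Subtype.val hb.2) q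
      simp only [Subring.coe_mul, SubringClass.coe_natCast, Pi.mul_apply, Pi.natCast_apply] at this
      exact this.symm.trans (hay q)

end AWNLib
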