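import Mathlib.GroupTheory.PGroup
import Mathlib.GroupTheory.GroupAction.Basic
import Mathlib.FieldTheory.PurelyInseparable.Basic
import Mathlib.LinearAlgebra.PiTensorProduct.Basis
import Mathlib.RingTheory.PiTensorProduct
import Mathlib.Data.ZMod.Basic
import Mathlib.Algebra.CharP.Lemmas

/-!
# Products of symmetric tensors in purely inseparable extensions
-/

universe u v

namespace AWNLib

open Finset

lemma sum_eq_zero_of_fixed {G X K : Type*} [Group G] [MulAction G X] [Fintype X] [CommRing K] {p : ℕ}
    [Fact p.Prime] (hG : IsPGroup p G) (hp : (p : K) = 0) (v : X → K) (hv : ∀ (g : G) x, v (g • x) = v x)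
    (h0 : ∀ x, (∀ g : G, g • x = x) → v x = 0) : ∑ x, v x = 0 := by
  classical
  have : Fintype (MulAction.orbitRel.Quotient G X) := Fintype.ofFinite _
  rw [← Finset.sum_fiberwise univ (Quotient.mk'' : X → MulAction.orbitRel.Quotient G X) v]
  refine Finset.sum_eq_zero fun ω _ => ?_
  induction ω using Quotient.inductionOn' with
  | h a =>
    have hmem : ∀ x, x ∈ univ.filter (fun x => (Quotient.mk'' x : MulAction.orbitRel.Quotient G X) = Quotient.mk'' a) ↔
        x ∈ MulAction.orbit G a := fun x => by
      rw [Finset.mem_filter, Quotient.eq'']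
      simp [MulAction.orbitRel_apply]
    rw [Finset.sum_congr rfl (g := fun _ => v a) fun x hx => by
      obtain ⟨g, rfl⟩ := (hmem x).1 hx
      exact hv g a, Finset.sum_const, nsmul_eq_mul]
    have hc : Nat.card (MulAction.orbit G a) = (univ.filter (fun x => (Quotient.mk'' x :
        MulAction.orbitRel.Quotient G X) = Quotient.mk'' a)).card := by
      rw [← Nat.card_eq_finsetCard]
      exact Nat.card_congr (Equiv.subtypeEquivRight fun x => (hmem x).symm)
    obtain ⟨n, hn⟩ := hG.card_orbit a
    rw [← hc, hn]
    cases n with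
    | zero =>
      have : ∀ g : G, g • a = a := fun g => by
        have hs : Subsingleton (MulAction.orbit G a) :=
          (Nat.card_eq_one_iff_unique.1 (by rw [hn, pow_zero])).1
        exact congrArg Subtype.val (hs.elim ⟨g • a, g, rfl⟩ ⟨a, MulAction.mem_orbit_self a⟩)
      rw [h0 a this, mul_zero]
    | succ n => rw [pow_succ, Nat.cast_mul, hp, mul_zero, zero_mul]

variable {k K : Type*} [Field k] [Field K] [Algebra k K]

/-- The cyclic shift action. -/
@[reducible] def shiftAction (p : ℕ) (X ι : Type*) :
    MulAction (Multiplicative (ZMod p)) (ZMod p × X → ι) where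
  smul r f := fun z => f (z.1 + r.toAdd, z.2)
  one_smul f := by
    funext z
    show f (z.1 + (0 : ZMod p), z.2) = f z
    rw [add_zero]
  mul_smul r t f := by
    funext z
    show f (z.1 + (r.toAdd + t.toAdd), z.2) = f (z.1 + r.toAdd + t.toAdd, z.2)
    rw [add_assoc]

lemma symSum_step {p : ℕ} [Fact p.Prime] (hp : (p : K) = 0) {X ι : Type*} [Fintype X] [DecidableEq X] [Fintype ι]
    [DecidableEq ι] (c : (ZMod p × X → ι) → k)
    (hc : ∀ (σ : Equiv.Perm (ZMod p × X)) f, c (f ∘ σ) = c f) (g : ι → K) :
    ∑ f, algebraMap k K (c f) * ∏ z, g (f z) =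
      ∑ f' : X → ι, algebraMap k K (c (f' ∘ Prod.snd)) * ∏ x, g (f' x) ^ p := by
  letI := shiftAction p X ι
  let e : (X → ι) ↪ (ZMod p × X → ι) :=
    ⟨fun f' => f' ∘ Prod.snd, fun f₁ f₂ h => funext fun x => congrFun h (0, x)⟩
  let w : (ZMod p × X → ι) → K := fun f => algebraMap k K (c f) * ∏ z, g (f z)
  have hw : ∀ (r : Multiplicative (ZMod p)) f, w (r • f) = w f := fun r f => by
    let σ : Equiv.Perm (ZMod p × X) := (Equiv.addRight r.toAdd).prodCongr (Equiv.refl X)
    show algebraMap k K (c (f ∘ σ)) * ∏ z, g (f (σ z)) = _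
    rw [hc σ f, Equiv.prod_comp σ fun z => g (f z)]
  let v : (ZMod p × X → ι) → K := fun f => if f ∈ univ.map e then 0 else w f
  have key : ∑ f, v f = 0 := by
    refine sum_eq_zero_of_fixed (G := Multiplicative (ZMod p)) (p := p) ?_ hp v (fun r f => ?_) fun f hf => ?_
    · exact IsPGroup.of_card (n := 1) (by
        rw [Nat.card_congr Multiplicative.toAdd, Nat.card_zmod, pow_one])
    · have hmem : r • f ∈ univ.map e ↔ f ∈ univ.map e := by
        simp only [Finset.mem_map, Finset.mem_univ, true_and]
        constructor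
        · rintro ⟨f', h⟩
          refine ⟨f', funext fun z => ?_⟩
          have := congrFun h (z.1 - r.toAdd, z.2)
          show f' z.2 = f z
          rw [show f' z.2 = e f' (z.1 - r.toAdd, z.2) from rfl, this]
          show f (z.1 - r.toAdd + r.toAdd, z.2) = f z
          rw [sub_add_cancel]
        · rintro ⟨f', rfl⟩
          exact ⟨f', rfl⟩
      simp only [v, hw, hmem]
    · have : f ∈ univ.map e := by
        simp only [Finset.mem_map, Finset.mem_univ, true_and]
        refine ⟨fun x => f (0, x), funext fun z => ?_⟩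
        have := congrFun (hf (Multiplicative.ofAdd z.1)) (0, z.2)
        show f (0, z.2) = f z
        rw [← this]
        show f (0 + z.1, z.2) = f z
        rw [zero_add]
      simp only [v, if_pos this]
  rw [← Finset.sum_filter_add_sum_filter_not univ (fun f => f ∈ univ.map e)]
  simp only [v, Finset.sum_ite, Finset.sum_const_zero, zero_add, w] at key
  rw [key, add_zero, Finset.filter_univ_mem, Finset.sum_map]
  refine Finset.sum_congr rfl fun f' _ => ?_
  congr 1
  show ∏ z : ZMod p × X, g (f' z.2) = _
  rw [Fintype.prod_prod_type_right]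
  refine Finset.prod_congr rfl fun x _ => ?_
  show ∏ _i : ZMod p, g (f' x) = _
  rw [Finset.prod_const, Finset.card_univ, ZMod.card]

lemma symSum_mem (q : ℕ) [ExpChar K q] {ι : Type*} [Fintype ι] : ∀ (e : ℕ) (g : ι → K),
    (∀ i, g i ^ q ^ e ∈ (algebraMap k K).range) → ∀ (X : Type) [Fintype X] [DecidableEq X],
    q ^ e ∣ Fintype.card X → ∀ c : (X → ι) → k, (∀ (σ : Equiv.Perm X) f, c (f ∘ σ) = c f) →
    ∑ f, algebraMap k K (c f) * ∏ x, g (f x) ∈ (algebraMap k K).range := by
  classical
  intro e
  induction e with
  | zero =>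
    intro g hg X _ _ _ c _
    refine Subring.sum_mem _ fun f _ => Subring.mul_mem _ ⟨_, rfl⟩ (Subring.prod_mem _ fun x _ => ?_)
    simpa using hg (f x)
  | succ e ih =>
    intro g hg X _ _ hd c hc
    cases ‹ExpChar K q› with
    | zero =>
      refine Subring.sum_mem _ fun f _ => Subring.mul_mem _ ⟨_, rfl⟩ (Subring.prod_mem _ fun x _ => ?_)
      simpa using hg (f x)
    | prime hq =>
      have : Fact q.Prime := ⟨hq⟩
      have hqK : (q : K) = 0 := CharP.cast_eq_zero K q
      obtain ⟨m, hm⟩ := hd
      let E : ZMod q × Fin (q ^ e * m) ≃ X := Fintype.equivOfCardEq (by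
        rw [Fintype.card_prod, ZMod.card, Fintype.card_fin, hm, pow_succ]; ring)
      have := ih (fun i => g i ^ q) (fun i => by rw [← pow_mul, ← pow_succ']; exact hg i) (Fin (q ^ e * m))
        (by rw [Fintype.card_fin]; exact dvd_mul_right _ _)
        (fun f' => c ((f' ∘ Prod.snd) ∘ E.symm)) (fun σ f' => by
          rw [← hc (E.symm.trans (((Equiv.refl _).prodCongr σ).trans E)) ((f' ∘ Prod.snd) ∘ E.symm)]
          congr 1
          funext x
          simp)
      rw [← symSum_step (k := k) hqK (fun f => c (f ∘ E.symm)) (fun σ f => by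
        rw [← hc (E.symm.trans (σ.trans E)) (f ∘ E.symm)]
        congr 1
        funext x
        simp) g] at this
      rwa [Fintype.sum_equiv (E.arrowCongr (Equiv.refl ι)).symm (fun f => algebraMap k K (c f) * ∏ x, g (f x))
        (fun h => algebraMap k K (c (h ∘ E.symm)) * ∏ z, g (h z)) fun f => ?_]
      have e1 : (E.arrowCongr (Equiv.refl ι)).symm f = f ∘ E := funext fun z => rfl
      simp only [e1, Function.comp_assoc, Equiv.self_comp_symm, Function.comp_id]
      congr 1
      exact (E.prod_comp fun x => g (f x)).symm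

variable (k K)

/-- Products of symmetric tensors of degree divisible by a purely inseparable degree are in the base. -/
theorem mult_symTensor_mem [IsPurelyInseparable k K] [FiniteDimensional k K] (d : ℕ)
    (hd : Module.finrank k K ∣ d) (y : PiTensorProduct k (fun _ : Fin d => K))
    (hy : ∀ σ : Equiv.Perm (Fin d), PiTensorProduct.reindex k (fun _ : Fin d => K) σ y = y) :
    PiTensorProduct.lift (MultilinearMap.mkPiAlgebra k (Fin d) K) y ∈ (algebraMap k K).range := by
  classical
  let q := ringExpChar k
  haveI : ExpChar k q := ringExpChar.expChar k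
  haveI : ExpChar K q := expChar_of_injective_ringHom (algebraMap k K).injective q
  obtain ⟨n, hn⟩ := IsPurelyInseparable.finrank_eq_pow K (F := k) q
  have hpow : ∀ x : K, x ^ q ^ n ∈ (algebraMap k K).range := fun x => by
    obtain ⟨m, a, ha⟩ := IsPurelyInseparable.minpoly_eq_X_pow_sub_C k q x
    have hx : x ^ q ^ m ∈ (algebraMap k K).range := by
      refine ⟨a, ?_⟩
      have := minpoly.aeval k x
      rw [ha, map_sub, map_pow, Polynomial.aeval_X, Polynomial.aeval_C, sub_eq_zero] at this
      exact this.symm
    by_cases hmn : m ≤ n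
    · obtain ⟨l, rfl⟩ := Nat.exists_eq_add_of_le hmn
      rw [pow_add, pow_mul]
      exact Subring.pow_mem _ hx _
    · have hdeg := minpoly.natDegree_le (A := k) x
      rw [ha, Polynomial.natDegree_sub_C, Polynomial.natDegree_X_pow, hn] at hdeg
      have hq : q = 1 := by
        by_contra hq1
        have : 1 < q := by
          have := expChar_pos k q
          omega
        exact hmn ((Nat.pow_le_pow_iff_right this).1 hdeg)
      rw [hq, one_pow] at hx ⊢
      exact hx
  let b := Module.finBasis k K
  let bb := Basis.piTensorProduct (fun _ : Fin d => b)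
  have hexp : y = ∑ f, bb.repr y f • PiTensorProduct.tprod k (fun i => b (f i)) := by
    conv_lhs => rw [← bb.sum_repr y]
    simp only [bb, Basis.piTensorProduct_apply]
  have hsym : ∀ (σ : Equiv.Perm (Fin d)) f, bb.repr y (f ∘ σ) = bb.repr y f := by
    intro σ f
    have hlin : ((Finsupp.lapply (f ∘ σ)).comp bb.repr.toLinearMap).comp
        (PiTensorProduct.reindex k (fun _ : Fin d => K) σ.symm).toLinearMap =
        (Finsupp.lapply f).comp bb.repr.toLinearMap := bb.ext fun h => by
      have e : PiTensorProduct.reindex k (fun _ : Fin d => K) σ.symm (bb h) = bb (h ∘ σ) := by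
        simp only [bb, Basis.piTensorProduct_apply]
        exact PiTensorProduct.reindex_tprod σ.symm fun i => b (h i)
      simp only [LinearMap.coe_comp, LinearEquiv.coe_coe, Function.comp_apply, Finsupp.lapply_apply, e,
        Module.Basis.repr_self, Finsupp.single_apply]
      exact if_congr σ.surjective.injective_comp_right.eq_iff rfl rfl
    have := LinearMap.congr_fun hlin y
    simp only [LinearMap.coe_comp, LinearEquiv.coe_coe, Function.comp_apply, Finsupp.lapply_apply, hy] at this
    exact this
  rw [hexp, map_sum]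
  rw [Finset.sum_congr rfl fun f _ => by
    rw [LinearMap.map_smul, PiTensorProduct.lift.tprod, MultilinearMap.mkPiAlgebra_apply, Algebra.smul_def]]
  exact symSum_mem q n (fun i => b i) (fun i => hpow _) (Fin d) (by rw [Fintype.card_fin, ← hn]; exact hd)
    (fun f => bb.repr y f) hsym

end AWNLib
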