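import Groth.Agent.AWNLib.Sub
import Groth.Agent.AWNLib.Local
import Groth.Agent.AWNLib.SymMul
import Groth.Agent.TowerLib.Main
import Groth.Prelude.Def_SymTen

/-!
# Elements with trivial residue classes over a seminormal ring; symmetric tensors
-/

universe u

open AlgebraicGeometry CategoryTheory

namespace AWNLib

variable {C W : Type u} [CommRing C] [CommRing W]

/-- Over a seminormal ring, elements of a universal homeomorphism with trivial residue classes descend. -/
lemma mem_range_of_RF [IsReduced W] (g : C →+* W) (hC : HTop.IsSeminormalRing C)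
    (hg : FlatMor.IsUnivHomeo (Spec.map (CommRingCat.ofHom g))) (z : W)
    (hz : ∀ Q : PrimeSpectrum W, RF g Q z) : z ∈ g.range := by
  letI := g.toAlgebra
  have hred := isReduced_of_isSeminormalRing hC
  obtain ⟨hint, hs, hu⟩ := (univHomeo_iff g).1 hg
  have hinj : Function.Injective g := (injective_iff_map_eq_zero g).2 fun c hc =>
    (isNilpotent_of_surjective_comap g hs hc).eq_zero
  let D : Subalgebra C W :=
    { carrier := {w | ∀ Q : PrimeSpectrum W, RF g Q w}
      mul_mem' := fun hx hy Q => RF.mul (hx Q) (hy Q)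
      add_mem' := fun hx hy Q => RF.add (hx Q) (hy Q)
      algebraMap_mem' := fun c Q => RF.of_map g Q c }
  have hi : D.val.toRingHom.IsIntegral := RingHom.IsIntegral.tower_top (algebraMap C D) D.val.toRingHom hint
  have : Algebra.IsIntegral C D := ⟨sub_isIntegral D hint⟩
  have hHom : TowerLib.HomInj C D := fun K _ g₁ g₂ h => sub_univInj D hint (fun K _ => hu K) K g₁ g₂ h
  have hRes : TowerLib.ResSurj C D := fun q hq b => by
    obtain ⟨Q', hQ'⟩ := hi.comap_surjective Subtype.val_injective ⟨q, hq⟩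
    obtain ⟨a, s, hs, hb⟩ := b.2 Q'
    have e : q = (PrimeSpectrum.comap D.val.toRingHom Q').asIdeal := (congrArg PrimeSpectrum.asIdeal hQ').symm
    subst e
    exact ⟨a, s, hs, hb⟩
  by_contra hne
  have hbot : (⊥ : Subalgebra C D) ≠ ⊤ := fun h => hne (by
    obtain ⟨c, hc⟩ := Algebra.mem_bot.1 (h ▸ Algebra.mem_top : (⟨z, hz⟩ : D) ∈ (⊥ : Subalgebra C D))
    exact ⟨c, congrArg Subtype.val hc⟩)
  obtain ⟨y, hy, h2, h3⟩ := TowerLib.exists_step_sqCube hHom hRes ⊥ hbot
  obtain ⟨x₂, hx₂⟩ := Algebra.mem_bot.1 h2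
  obtain ⟨x₃, hx₃⟩ := Algebra.mem_bot.1 h3
  have e2 : g x₂ = (y : W) ^ 2 := (congrArg Subtype.val hx₂).trans (SubmonoidClass.coe_pow y 2)
  have e3 : g x₃ = (y : W) ^ 3 := (congrArg Subtype.val hx₃).trans (SubmonoidClass.coe_pow y 3)
  obtain ⟨a, ⟨ha2, ha3⟩, -⟩ := hC x₂ x₃ (hinj (by rw [map_pow, map_pow, e2, e3]; ring))
  refine hy (Algebra.mem_bot.2 ⟨a, Subtype.ext (eq_of_sq_cube_reduced ?_ ?_)⟩)
  · show g a ^ 2 = _
    rw [← map_pow, ← ha2, e2]
  · show g a ^ 3 = _
    rw [← map_pow, ← ha3, e3]

lemma RF_of_mem_range (f : C →+* W) (Q : PrimeSpectrum W) (b : W)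
    (h : algebraMap W Q.asIdeal.ResidueField b ∈
      (Ideal.ResidueField.map (PrimeSpectrum.comap f Q).asIdeal Q.asIdeal f rfl).range) : RF f Q b := by
  obtain ⟨z, hz⟩ := h
  obtain ⟨a, s, hs, hz'⟩ := IsFractionRing.div_surjective (A := C ⧸ (PrimeSpectrum.comap f Q).asIdeal) z
  obtain ⟨a, rfl⟩ := Ideal.Quotient.mk_surjective a
  obtain ⟨s, rfl⟩ := Ideal.Quotient.mk_surjective s
  have hs0 : f s ∉ Q.asIdeal := fun hc => nonZeroDivisors.ne_zero hs (Ideal.Quotient.eq_zero_iff_mem.2 hc)
  refine ⟨a, s, hs0, ?_⟩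
  rw [← Ideal.algebraMap_residueField_eq_zero, map_sub, map_mul, ← hz, ← hz', sub_eq_zero, map_div₀]
  refine (congrArg (_ * ·) (congrArg₂ (· / ·) (map_algebraMap' f Q a) (map_algebraMap' f Q s))).trans ?_
  exact mul_div_cancel₀ _ fun hc => hs0 (Ideal.algebraMap_residueField_eq_zero.1 hc)

variable {A B : Type u} [CommRing A] [CommRing B] [Algebra A B]

/-- The image of a symmetric tensor under multiplication into a purely inseparable extension. -/
lemma map_symTensor_mem {k K : Type u} [Field k] [Field K] [Algebra A k] [Algebra A K] [Algebra k K]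
    [IsScalarTower A k K] [IsPurelyInseparable k K] [FiniteDimensional k K] (d : ℕ) (hd : Module.finrank k K ∣ d)
    (ψ : B →ₐ[A] K) (x : PiTensorProduct A (fun _ : Fin d => B)) (hx : x ∈ SymTen.TS A B d) :
    ψ (PiTensorProduct.lift (MultilinearMap.mkPiAlgebra A (Fin d) B) x) ∈ (algebraMap k K).range := by
  let T : PiTensorProduct A (fun _ : Fin d => B) →ₗ[A] PiTensorProduct k (fun _ : Fin d => K) :=
    PiTensorProduct.lift (((PiTensorProduct.tprod k).restrictScalars A).compLinearMap fun _ => ψ.toLinearMap)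
  have hT : ∀ b, T (PiTensorProduct.tprod A b) = PiTensorProduct.tprod k (fun i => ψ (b i)) := fun b => by
    simp [T]
  have hm : PiTensorProduct.lift (MultilinearMap.mkPiAlgebra k (Fin d) K) (T x) =
      ψ (PiTensorProduct.lift (MultilinearMap.mkPiAlgebra A (Fin d) B) x) := by
    have : ((PiTensorProduct.lift (MultilinearMap.mkPiAlgebra k (Fin d) K)).restrictScalars A).comp T =
        ψ.toLinearMap.comp (PiTensorProduct.lift (MultilinearMap.mkPiAlgebra A (Fin d) B)) := by
      refine PiTensorProduct.ext (MultilinearMap.ext fun b => ?_)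
      simp only [LinearMap.compMultilinearMap_apply, LinearMap.coe_comp, LinearMap.coe_restrictScalars,
        Function.comp_apply, hT, PiTensorProduct.lift.tprod, MultilinearMap.mkPiAlgebra_apply,
        AlgHom.toLinearMap_apply, map_prod]
    exact LinearMap.congr_fun this x
  rw [← hm]
  refine mult_symTensor_mem k K d hd (T x) fun σ => ?_
  have key : ((PiTensorProduct.reindex k (fun _ : Fin d => K) σ).toLinearMap.restrictScalars A).comp T =
      T.comp (PiTensorProduct.reindex A (fun _ : Fin d => B) σ).toLinearMap := by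
    refine PiTensorProduct.ext (MultilinearMap.ext fun b => ?_)
    simp only [LinearMap.compMultilinearMap_apply, LinearMap.coe_comp, LinearMap.coe_restrictScalars,
      LinearEquiv.coe_coe, Function.comp_apply, hT, PiTensorProduct.reindex_tprod]
  exact (LinearMap.congr_fun key x).trans (congrArg T (hx σ))

theorem mul_symTensor_mem [Algebra A C] [Algebra A W] [IsReduced W] (hC : HTop.IsSeminormalRing C)
    (g : C →ₐ[A] W) (hg : FlatMor.IsUnivHomeo (Spec.map (CommRingCat.ofHom g.toRingHom)))
    (d : ℕ) (hd : 0 < d)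
    (hdeg : ∀ q : PrimeSpectrum W,
      @Module.finrank (PrimeSpectrum.comap g.toRingHom q).asIdeal.ResidueField q.asIdeal.ResidueField _ _
          (Ideal.ResidueField.map (PrimeSpectrum.comap g.toRingHom q).asIdeal q.asIdeal g.toRingHom
            rfl).toAlgebra.toModule ∣ d)
    (φ : B →ₐ[A] W) (x : PiTensorProduct A (fun _ : Fin d => B)) (hx : x ∈ SymTen.TS A B d) :
    φ (PiTensorProduct.lift (MultilinearMap.mkPiAlgebra A (Fin d) B) x) ∈ g.range := by
  refine mem_range_of_RF g.toRingHom hC hg _ fun Q => RF_of_mem_range _ Q _ ?_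
  let p := (PrimeSpectrum.comap g.toRingHom Q).asIdeal
  let ι := Ideal.ResidueField.map p Q.asIdeal g.toRingHom rfl
  letI : Algebra p.ResidueField Q.asIdeal.ResidueField := ι.toAlgebra
  have hpi : IsPurelyInseparable p.ResidueField Q.asIdeal.ResidueField := by
    haveI : ExpChar p.ResidueField (ringExpChar p.ResidueField) := ringExpChar.expChar _
    refine (isPurelyInseparable_iff_pow_mem _ (ringExpChar p.ResidueField)).2 fun y => ?_
    obtain ⟨n, hn⟩ := pow_mem_of_univHomeo g.toRingHom hg Q y
    exact ⟨n, hn⟩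
  have : FiniteDimensional p.ResidueField Q.asIdeal.ResidueField := by
    refine Module.finite_of_finrank_pos (Nat.pos_of_ne_zero fun h0 => hd.ne' ?_)
    have := hdeg Q
    rw [h0, zero_dvd_iff] at this
    exact this
  let ρ : W →ₐ[A] Q.asIdeal.ResidueField := IsScalarTower.toAlgHom A W Q.asIdeal.ResidueField
  have : IsScalarTower A p.ResidueField Q.asIdeal.ResidueField := IsScalarTower.of_algebraMap_eq fun a => by
    show _ = ι (algebraMap A p.ResidueField a)
    rw [IsScalarTower.algebraMap_apply A C p.ResidueField, IsScalarTower.algebraMap_apply A W Q.asIdeal.ResidueField]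
    refine Eq.trans ?_ (map_algebraMap' g.toRingHom Q (algebraMap A C a)).symm
    exact congrArg _ (g.commutes a).symm
  exact map_symTensor_mem d (hdeg Q) (ρ.comp φ) x hx

end AWNLib
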