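import Groth.Agent.AWNLib.Functor
import Groth.Agent.S0415
import Mathlib.AlgebraicGeometry.Sites.SmallAffineZariski
import Mathlib.AlgebraicGeometry.RelativeGluing
import Mathlib.AlgebraicGeometry.Morphisms.UniversallyInjective

/-!
# Absolute weak normalization of schemes
-/

universe u

open AlgebraicGeometry CategoryTheory CategoryTheory.Limits AlgebraicGeometry.Scheme
  AlgebraicGeometry.Scheme.AffineZariskiSite

namespace AWNLib

theorem eq_of_comp_univHomeo {X Y Z : Scheme.{u}} [AlgebraicGeometry.IsReduced Z] (π : Y ⟶ X)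
    (hπ : FlatMor.IsUnivHomeo π) {g₁ g₂ : Z ⟶ Y} (h : g₁ ≫ π = g₂ ≫ π) : g₁ = g₂ := by
  obtain ⟨h1, h2, -⟩ := (Groth.Agent.S0415.result π).1 hπ
  have : Surjective (pullback.diagonal π) := (UniversallyInjective.iff_diagonal π).1 h2
  let e := pullback.lift g₁ g₂ h
  have : IsIso (pullback.snd (pullback.diagonal π) e) := isIso_of_isClosedImmersion_of_surjective _
  rw [← cancel_epi (pullback.snd (pullback.diagonal π) e),
    ← pullback.lift_fst g₁ g₂ h, ← pullback.condition_assoc, pullback.diagonal_fst]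
  conv_rhs => rw [← pullback.lift_snd g₁ g₂ h, ← pullback.condition_assoc, pullback.diagonal_snd]

theorem univHomeo_id (X : Scheme.{u}) : FlatMor.IsUnivHomeo (𝟙 X) :=
  (Groth.Agent.S0415.result _).2 ⟨inferInstance, inferInstance, inferInstance⟩

theorem univHomeo_app {X Y : Scheme.{u}} (π : Y ⟶ X) [IsAffineHom π] (hπ : FlatMor.IsUnivHomeo π)
    (U : X.Opens) (hU : IsAffineOpen U) : FlatMor.IsUnivHomeo (Spec.map (π.app U)) := by
  have : MorphismProperty.IsStableUnderBaseChange FlatMor.IsUnivHomeo.{u} :=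
    MorphismProperty.universally_isStableUnderBaseChange _
  have : MorphismProperty.RespectsIso FlatMor.IsUnivHomeo.{u} :=
    MorphismProperty.universally_respectsIso _
  have hV : IsAffineOpen (π ⁻¹ᵁ U) := hU.preimage π
  have e : Spec.map (π.app U) = hV.isoSpec.inv ≫ (π ∣_ U) ≫ hU.isoSpec.hom := by
    rw [← cancel_mono hU.fromSpec]
    simp only [Category.assoc, IsAffineOpen.isoSpec_hom_fromSpec, morphismRestrict_ι,
      IsAffineOpen.isoSpec_inv_ι_assoc, Scheme.Hom.app_eq_appLE]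
    exact IsAffineOpen.SpecMap_appLE_fromSpec π hU hV _
  rw [e, MorphismProperty.cancel_left_of_respectsIso FlatMor.IsUnivHomeo,
    MorphismProperty.cancel_right_of_respectsIso FlatMor.IsUnivHomeo]
  exact MorphismProperty.of_isPullback (isPullback_morphismRestrict π U).flip hπ

section Ring
variable {A : Type u} [CommRing A]

theorem toAwn_bijective (h : HTop.IsAWNRing A) : Function.Bijective (toAwn A) :=
  (bijective_iff_isAWNRing (toAwn A) (isRingAWN_toAwn A) (RingHom.id A)
    (by simpa using univHomeo_id (Spec (.of A))) (toAwn A) rfl).2 h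

end Ring

section Predicates
variable {X Y : Scheme.{u}}

theorem exists_affine_of_openImmersion (P : ∀ (R : Type u) [CommRing R], Prop)
    (hP : ∀ {R S : Type u} [CommRing R] [CommRing S], (R ≃+* S) → P R → P S)
    (f : Y ⟶ X) [IsOpenImmersion f] [IsAffine Y] (h : P Γ(Y, ⊤)) {x : X} (hx : x ∈ f.opensRange) :
    ∃ U : X.affineOpens, x ∈ (U : X.Opens) ∧ P Γ(X, U) :=
  ⟨⟨f.opensRange, isAffineOpen_opensRange f⟩, hx,
    hP (IsOpenImmersion.ΓIsoTop f).commRingCatIsoToRingEquiv h⟩

theorem isAWN_of_iso (e : X ≅ Y) (h : HTop.IsAWN X) : HTop.IsAWN Y := by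
  intro y
  obtain ⟨U, hU, hA⟩ := h (e.inv y)
  have : IsAffine (U : X.Opens).toScheme := U.2
  refine exists_affine_of_openImmersion (fun R => @HTop.IsAWNRing R)
    (fun e h => isAWNRing_of_ringEquiv e h) ((U : X.Opens).ι ≫ e.hom)
    (isAWNRing_of_ringEquiv (U : X.Opens).topIso.symm.commRingCatIsoToRingEquiv hA)
    ⟨⟨e.inv y, hU⟩, ?_⟩
  show e.hom (e.inv y) = y
  rw [← Scheme.Hom.comp_apply, e.inv_hom_id]
  rfl

theorem isSeminormalRing_of_ringEquiv {R S : Type u} [CommRing R] [CommRing S] (e : R ≃+* S)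
    (h : HTop.IsSeminormalRing R) : HTop.IsSeminormalRing S := by
  intro x y hxy
  obtain ⟨a, ⟨ha1, ha2⟩, ha⟩ := h (e.symm x) (e.symm y) (by rw [← map_pow, ← map_pow, hxy])
  refine ⟨e a, ⟨by rw [← map_pow, ← ha1, e.apply_symm_apply], by rw [← map_pow, ← ha2, e.apply_symm_apply]⟩,
    fun b hb => ?_⟩
  rw [← ha (e.symm b) ⟨by rw [hb.1, map_pow], by rw [hb.2, map_pow]⟩, e.apply_symm_apply]

theorem forall_affineOpens_of_local (P : ∀ (R : Type u) [CommRing R], Prop)
    (hP : ∀ {R S : Type u} [CommRing R] [CommRing S], (R ≃+* S) → P R → P S)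
    (hloc : ∀ {R : Type u} [CommRing R] (f : R) (S : Type u) [CommRing S] [Algebra R S]
      [IsLocalization.Away f S], P R → P S)
    (hspan : ∀ {R : Type u} [CommRing R] (s : Finset R), Ideal.span (s : Set R) = ⊤ →
      (∀ f ∈ s, P (Localization.Away f)) → P R)
    (h : ∀ x : X, ∃ U : X.affineOpens, x ∈ (U : X.Opens) ∧ P Γ(X, U)) (V : X.affineOpens) :
    P Γ(X, V) := by
  choose U hxU hU using h
  refine of_affine_open_cover (P := fun V => P Γ(X, V)) U ?_ V (fun W f hW => ?_) (fun W s hs hs' => ?_)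
    fun i => hU i
  · exact eq_top_iff.2 fun x _ => TopologicalSpace.Opens.mem_iSup.2 ⟨x, hxU x⟩
  · have := W.2.isLocalization_basicOpen f
    exact hloc f Γ(X, X.basicOpen f) hW
  · refine hspan s hs fun f hf => ?_
    have := W.2.isLocalization_basicOpen f
    exact hP (IsLocalization.algEquiv (Submonoid.powers f) Γ(X, X.basicOpen f) (Localization.Away f)).toRingEquiv
      (hs' ⟨f, hf⟩)

theorem isAWN_iff : HTop.IsAWN X ↔ ∀ U : X.affineOpens, HTop.IsAWNRing Γ(X, U) := by
  refine ⟨forall_affineOpens_of_local (fun R => @HTop.IsAWNRing R) (fun e h => isAWNRing_of_ringEquiv e h)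
    (fun f S _ _ _ h => isAWNRing_localization (.powers f) S h) (fun s hs h => isAWNRing_of_span s hs h),
    fun h x => ?_⟩
  obtain ⟨U, hU, hx, -⟩ := exists_isAffineOpen_mem_and_subset (x := x) (U := ⊤) trivial
  exact ⟨⟨U, hU⟩, hx, h _⟩

theorem isSeminormal_iff : HTop.IsSeminormal X ↔ ∀ U : X.affineOpens, HTop.IsSeminormalRing Γ(X, U) := by
  refine ⟨forall_affineOpens_of_local (fun R => @HTop.IsSeminormalRing R)
    (fun e h => isSeminormalRing_of_ringEquiv e h)
    (fun f S _ _ _ h => isSeminormalRing_localization (.powers f) S h)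
    (fun s hs h => isSeminormalRing_of_span s hs h), fun h x => ?_⟩
  obtain ⟨U, hU, hx, -⟩ := exists_isAffineOpen_mem_and_subset (x := x) (U := ⊤) trivial
  exact ⟨⟨U, hU⟩, hx, h _⟩

end Predicates

variable (X : Scheme.{u})

/-- The presheaf `U ↦ Γ(X, U)^awn` on affine opens. -/
noncomputable def awnDiagram : X.AffineZariskiSiteᵒᵖ ⥤ CommRingCat.{u} where
  obj U := CommRingCat.of (awn (((toOpensFunctor X).op ⋙ X.presheaf).obj U))
  map i := CommRingCat.ofHom (awnMap (((toOpensFunctor X).op ⋙ X.presheaf).map i).hom)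
  map_id U := by
    ext1
    rw [CategoryTheory.Functor.map_id]
    exact awnMap_id
  map_comp i j := by
    ext1
    rw [CategoryTheory.Functor.map_comp]
    exact awnMap_comp _ _

noncomputable def awnDiagramMap : (toOpensFunctor X).op ⋙ X.presheaf ⟶ awnDiagram X where
  app U := CommRingCat.ofHom (toAwn _)
  naturality U V i := by
    ext1
    exact (awnMap_comp_toAwn _).symm

theorem coequifibered_awnDiagramMap : (awnDiagramMap X).Coequifibered := by
  refine coequifibered_iff_forall_isLocalizationAway.mpr fun U r => ?_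
  let : Algebra Γ(X, U.1) Γ(X, X.basicOpen r) :=
    (X.presheaf.map (homOfLE (X.basicOpen_le r)).op).hom.toAlgebra
  have : IsLocalization.Away r Γ(X, X.basicOpen r) := U.2.isLocalization_basicOpen _
  exact isLocalization_awnMap (A := Γ(X, U.1)) (B := Γ(X, X.basicOpen r)) r

noncomputable def awnData : (directedCover X).RelativeGluingData :=
  relativeGluingData (coequifibered_awnDiagramMap X)

instance : ((awnData X).functor ⋙ Scheme.forget).IsLocallyDirected :=
  Cover.RelativeGluingData.instIsLocallyDirectedI₀CompFunctorForgetOfIsThin ..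

/-- The absolute weak normalization of a scheme. -/
noncomputable def AWN : Scheme.{u} := (awnData X).glued

noncomputable def ν : AWN X ⟶ X := (awnData X).toBase

noncomputable def awnCover : (AWN X).OpenCover := (awnData X).cover

theorem ι_ν (U : X.AffineZariskiSite) :
    (awnCover X).f U ≫ ν X =
      Spec.map (CommRingCat.ofHom (toAwn Γ(X, U.1))) ≫ U.2.fromSpec :=
  colimit.ι_desc _ _

instance instIsReducedCover (U : (awnCover X).I₀) : AlgebraicGeometry.IsReduced ((awnCover X).X U) :=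
  have := isReduced_awn (A := Γ(X, (U : X.AffineZariskiSite).1))
  inferInstanceAs (AlgebraicGeometry.IsReduced (Spec (CommRingCat.of (awn Γ(X, (U : X.AffineZariskiSite).1)))))

instance : AlgebraicGeometry.IsReduced (AWN X) := IsReduced.of_openCover (𝒰 := awnCover X)

theorem isAWN_AWN : HTop.IsAWN (AWN X) := by
  intro x
  obtain ⟨U, y, rfl⟩ := (awnCover X).exists_eq x
  have : IsAffine ((awnCover X).X U) :=
    inferInstanceAs (IsAffine (Spec (CommRingCat.of (awn Γ(X, U.1)))))
  exact exists_affine_of_openImmersion (fun R => @HTop.IsAWNRing R)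
    (fun e h => isAWNRing_of_ringEquiv e h) ((awnCover X).f U)
    (isAWNRing_of_ringEquiv (Scheme.ΓSpecIso (CommRingCat.of (awn Γ(X, U.1)))).symm.commRingCatIsoToRingEquiv
      (isAWNRing_awn (A := Γ(X, U.1)))) ⟨y, rfl⟩

theorem locally_iff (P : MorphismProperty Scheme.{u}) [IsZariskiLocalAtTarget P] :
    P (ν X) ↔ ∀ U : X.AffineZariskiSite, P (Spec.map (CommRingCat.ofHom (toAwn Γ(X, U.1)))) := by
  rw [IsZariskiLocalAtTarget.iff_of_openCover (P := P) (directedCover X)]
  refine forall_congr' fun U => ?_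
  have h := ((awnData X).isPullback_natTrans_ι_toBase U).flip
  have e : (awnData X).natTrans.app U =
      Spec.map (CommRingCat.ofHom (toAwn Γ(X, U.1))) ≫ U.2.isoSpec.inv := rfl
  show P (pullback.snd (awnData X).toBase ((directedCover X).f U)) ↔ _
  rw [show pullback.snd (awnData X).toBase ((directedCover X).f U) =
      h.isoPullback.inv ≫ (awnData X).natTrans.app U from h.isoPullback_inv_snd.symm]
  refine (MorphismProperty.cancel_left_of_respectsIso P h.isoPullback.inv ((awnData X).natTrans.app U)).trans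
    ((Iff.of_eq (congrArg (P (X := _) (Y := _)) e)).trans ?_)
  exact MorphismProperty.cancel_right_of_respectsIso P (Spec.map (CommRingCat.ofHom (toAwn Γ(X, U.1)))) U.2.isoSpec.inv

theorem univHomeo_ν : FlatMor.IsUnivHomeo (ν X) := by
  have : IsZariskiLocalAtTarget (@IsIntegralHom : MorphismProperty Scheme.{u}) :=
    @HasAffineProperty.instIsZariskiLocalAtTarget _ _ IsIntegralHom.hasAffineProperty
  have h (U : X.AffineZariskiSite) := (Groth.Agent.S0415.result _).1 (univHomeo_toAwn Γ(X, U.1))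
  exact (Groth.Agent.S0415.result _).2 ⟨(locally_iff X @IsIntegralHom).2 fun U => (h U).1,
    (locally_iff X @UniversallyInjective).2 fun U => (h U).2.1,
    (locally_iff X @Surjective).2 fun U => (h U).2.2⟩

theorem isIso_ν_iff : IsIso (ν X) ↔ HTop.IsAWN X := by
  rw [show IsIso (ν X) ↔ MorphismProperty.isomorphisms Scheme.{u} (ν X) from Iff.rfl,
    locally_iff X (MorphismProperty.isomorphisms Scheme.{u}), isAWN_iff]
  refine ⟨fun h U => ?_, fun h U => ?_⟩
  · have : IsIso (Spec.map (CommRingCat.ofHom (toAwn Γ(X, U.1)))) := h U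
    exact isAWNRing_of_ringEquiv (RingEquiv.ofBijective (toAwn Γ(X, U.1)) (isIso_SpecMap_iff.1 this)).symm
      isAWNRing_awn
  · have : IsIso (CommRingCat.ofHom (toAwn Γ(X, U.1))) :=
      (RingEquiv.ofBijective _ (toAwn_bijective (h ⟨U.1, U.2⟩))).toCommRingCatIso.isIso_hom
    exact inferInstanceAs (IsIso (Spec.map _))

theorem exists_lift {Y : Scheme.{u}} (π : Y ⟶ X) (hπ : FlatMor.IsUnivHomeo π) :
    ∃ h : AWN X ⟶ Y, h ≫ π = ν X := by
  obtain ⟨h1, -, -⟩ := (Groth.Agent.S0415.result π).1 hπ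
  have loc : ∀ U : (awnCover X).I₀, ∃ g : (awnCover X).X U ⟶ Y, g ≫ π = (awnCover X).f U ≫ ν X := by
    intro U
    let U' : X.AffineZariskiSite := U
    obtain ⟨χ, hχ, -⟩ := (isRingAWN_toAwn Γ(X, U'.1)).2 Γ(Y, π ⁻¹ᵁ U'.1) (π.app U'.1).hom
      (univHomeo_app π hπ U'.1 U'.2)
    refine ⟨Spec.map (CommRingCat.ofHom χ) ≫ (U'.2.preimage π).fromSpec, ?_⟩
    show _ = (awnCover X).f U' ≫ ν X
    refine (Category.assoc _ _ _).trans (Eq.trans ?_ (ι_ν X U').symm)
    rw [← IsAffineOpen.SpecMap_appLE_fromSpec π U'.2 (U'.2.preimage π) le_rfl, ← Scheme.Hom.app_eq_appLE]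
    refine (Category.assoc _ _ _).symm.trans (congrArg (· ≫ U'.2.fromSpec) ?_)
    refine (Spec.map_comp _ _).symm.trans (congrArg Spec.map ?_)
    ext1
    exact hχ
  choose g hg using loc
  refine ⟨(awnCover X).glueMorphisms g fun U V => ?_, (awnCover X).hom_ext _ _ fun U => ?_⟩
  · have : AlgebraicGeometry.IsReduced (pullback ((awnCover X).f U) ((awnCover X).f V)) :=
      isReduced_of_isOpenImmersion (pullback.fst ((awnCover X).f U) ((awnCover X).f V))
    refine eq_of_comp_univHomeo π hπ ?_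
    rw [Category.assoc, Category.assoc, hg, hg, pullback.condition_assoc]
  · rw [Cover.ι_glueMorphisms_assoc, hg]

theorem isAWNormalization_ν : HTop.IsAWNormalization (ν X) := by
  refine ⟨univHomeo_ν X, fun Y π hπ => ?_⟩
  obtain ⟨h, hh⟩ := exists_lift X π hπ
  exact ⟨h, hh, fun h' hh' => eq_of_comp_univHomeo π hπ (hh'.trans hh.symm)⟩

variable {X}

theorem exists_section (hX : HTop.IsAWN X) {Y : Scheme.{u}} (π : Y ⟶ X) (hπ : FlatMor.IsUnivHomeo π) :
    ∃ s : X ⟶ Y, s ≫ π = 𝟙 X := by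
  have := (isIso_ν_iff X).2 hX
  obtain ⟨h, hh⟩ := exists_lift X π hπ
  exact ⟨inv (ν X) ≫ h, by rw [Category.assoc, hh, IsIso.inv_hom_id]⟩

theorem isReduced_of_isAWN (hX : HTop.IsAWN X) : AlgebraicGeometry.IsReduced X :=
  have := (isIso_ν_iff X).2 hX
  isReduced_of_isOpenImmersion (inv (ν X))

theorem isIso_of_isAWN_of_reduced (hX : HTop.IsAWN X) {Y : Scheme.{u}} (π : Y ⟶ X)
    (hπ : FlatMor.IsUnivHomeo π) [AlgebraicGeometry.IsReduced Y] : IsIso π := by
  obtain ⟨s, hs⟩ := exists_section hX π hπ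
  exact ⟨s, eq_of_comp_univHomeo π hπ (by rw [Category.assoc, hs, Category.comp_id, Category.id_comp]), hs⟩

theorem exists_iso_of_isAWNormalization {X' : Scheme.{u}} {p : X' ⟶ X} (hp : HTop.IsAWNormalization p) :
    ∃ e : AWN X ≅ X', e.hom ≫ p = ν X := by
  obtain ⟨h, hh⟩ := exists_lift X p hp.1
  obtain ⟨k, hk, -⟩ := hp.2 _ (ν X) (univHomeo_ν X)
  obtain ⟨_, -, hu⟩ := hp.2 _ p hp.1
  exact ⟨⟨h, k, eq_of_comp_univHomeo (ν X) (univHomeo_ν X) (by rw [Category.assoc, hk, hh, Category.id_comp]),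
    (hu _ (show (k ≫ h) ≫ p = p by rw [Category.assoc, hh, hk])).trans (hu _ (Category.id_comp p)).symm⟩, hh⟩

theorem isIso_comparison_iff {X' Y : Scheme.{u}} (p : X' ⟶ X) (hp : HTop.IsAWNormalization p)
    (π : Y ⟶ X) (hπ : FlatMor.IsUnivHomeo π) (h : X' ⟶ Y) (hh : h ≫ π = p) :
    IsIso h ↔ HTop.IsAWN Y := by
  obtain ⟨e, -⟩ := exists_iso_of_isAWNormalization hp
  refine ⟨fun _ => isAWN_of_iso (e ≪≫ asIso h) (isAWN_AWN X), fun hY => ?_⟩
  have := isReduced_of_isAWN hY
  have : AlgebraicGeometry.IsReduced X' := isReduced_of_isOpenImmersion e.inv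
  have : MorphismProperty.IsStableUnderBaseChange FlatMor.IsUnivHomeo.{u} :=
    MorphismProperty.universally_isStableUnderBaseChange _
  obtain ⟨s, hs⟩ := exists_section hY (pullback.fst π p) (MorphismProperty.pullback_fst _ _ hp.1)
  have hk : (s ≫ pullback.snd π p) ≫ p = π := by
    rw [Category.assoc, ← pullback.condition, reassoc_of% hs]
  exact ⟨s ≫ pullback.snd π p,
    eq_of_comp_univHomeo p hp.1 (by rw [Category.assoc, hk, hh, Category.id_comp]),
    eq_of_comp_univHomeo π hπ (by rw [Category.assoc, hh, hk, Category.id_comp])⟩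

theorem isAWN_iff_id : HTop.IsAWN X ↔ HTop.IsAWNormalization (𝟙 X) := by
  refine ⟨fun hX => ⟨univHomeo_id X, fun Y π hπ => ?_⟩, fun h => ?_⟩
  · have := isReduced_of_isAWN hX
    obtain ⟨s, hs⟩ := exists_section hX π hπ
    exact ⟨s, hs, fun h' hh' => eq_of_comp_univHomeo π hπ (hh'.trans hs.symm)⟩
  · obtain ⟨e, -⟩ := exists_iso_of_isAWNormalization h
    exact isAWN_of_iso e (isAWN_AWN X)

theorem isAWN_iff_forall_isIso : HTop.IsAWN X ↔
    ∀ (Y : Scheme.{u}) (π : Y ⟶ X), FlatMor.IsUnivHomeo π → AlgebraicGeometry.IsReduced Y → IsIso π :=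
  ⟨fun hX _ π hπ _ => isIso_of_isAWN_of_reduced hX π hπ,
    fun h => (isIso_ν_iff X).1 (h _ (ν X) (univHomeo_ν X) inferInstance)⟩

end AWNLib
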