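import Groth.Agent.AWNLib.Basic
import Mathlib.CategoryTheory.Limits.Constructions.Over.Connected
import Mathlib.Algebra.Category.Ring.FilteredColimits
import Mathlib.CategoryTheory.Filtered.Connected
import Mathlib.CategoryTheory.Limits.Preserves.Over

/-!
# Subalgebras and colimits of universal homeomorphisms
-/

universe u

open AlgebraicGeometry CategoryTheory

namespace AWNLib

variable {A B : Type u} [CommRing A] [CommRing B]

lemma univInj_iff (f : A →+* B) :
    UniversallyInjective (Spec.map (CommRingCat.ofHom f)) ↔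
      ∀ (K : Type u) [Field K] (g₁ g₂ : B →+* K), g₁.comp f = g₂.comp f → g₁ = g₂ := by
  have key : UniversallyInjective (Spec.map (CommRingCat.ofHom f)) ↔ ∀ (K : Type u) [Field K],
      Function.Injective (fun g : Spec (.of K) ⟶ Spec (CommRingCat.of B) => g ≫ Spec.map (CommRingCat.ofHom f)) :=
    (tfae_universallyInjective (f := Spec.map (CommRingCat.ofHom f))).out 0 1
  rw [key]
  constructor
  · intro h K _ g₁ g₂ hg
    have := @h K _ (Spec.map (CommRingCat.ofHom g₁)) (Spec.map (CommRingCat.ofHom g₂)) (by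
      simp only
      rw [← Spec.map_comp, ← Spec.map_comp, ← CommRingCat.ofHom_comp, ← CommRingCat.ofHom_comp, hg])
    exact congrArg CommRingCat.Hom.hom (Spec.map_injective this)
  · intro h K _ g₁ g₂ hg
    obtain ⟨g₁, rfl⟩ := Spec.map_surjective g₁
    obtain ⟨g₂, rfl⟩ := Spec.map_surjective g₂
    simp only at hg
    rw [← Spec.map_comp, ← Spec.map_comp] at hg
    have := congrArg CommRingCat.Hom.hom (Spec.map_injective hg)
    exact congrArg Spec.map (CommRingCat.hom_ext (h K _ _ this))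

lemma univClosed_iff (f : A →+* B) :
    UniversallyClosed (Spec.map (CommRingCat.ofHom f)) ↔ f.IsIntegral := by
  refine Iff.trans ?_ (IsIntegralHom.SpecMap_iff (φ := CommRingCat.ofHom f))
  rw [IsIntegralHom.iff_universallyClosed_and_isAffineHom]
  exact ⟨fun h => ⟨h, inferInstance⟩, fun h => h.1⟩

/-- Elements whose residue classes all come from the base. -/
def RF (f : A →+* B) (Q : PrimeSpectrum B) (b : B) : Prop :=
  ∃ a s : A, f s ∉ Q.asIdeal ∧ f s * b - f a ∈ Q.asIdeal

lemma map_algebraMap' (f : A →+* B) (x : PrimeSpectrum B) (a : A) :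
    Ideal.ResidueField.map (PrimeSpectrum.comap f x).asIdeal x.asIdeal f rfl
      (algebraMap A (PrimeSpectrum.comap f x).asIdeal.ResidueField a) = algebraMap B x.asIdeal.ResidueField (f a) :=
  Ideal.ResidueField.map_algebraMap _ _ _ _ a

lemma residueFieldMap_surjective_iff (f : A →+* B) :
    (∀ x : Spec (CommRingCat.of B), Function.Surjective ((Spec.map (CommRingCat.ofHom f)).residueFieldMap x)) ↔
      ∀ (Q : PrimeSpectrum B) (b : B), RF f Q b := by
  refine forall_congr' fun (x : PrimeSpectrum B) => ?_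
  have hA := (Scheme.Spec.residueFieldIso (CommRingCat.of A)
    (Spec.map (CommRingCat.ofHom f) x)).symm.commRingCatIsoToRingEquiv.bijective
  have hB := (Scheme.Spec.residueFieldIso (CommRingCat.of B) x).symm.commRingCatIsoToRingEquiv.bijective
  have key : Function.Surjective ((Spec.map (CommRingCat.ofHom f)).residueFieldMap x) ↔
      Function.Surjective (Ideal.ResidueField.map (PrimeSpectrum.comap f x).asIdeal x.asIdeal f rfl) := by
    refine (Function.Surjective.of_comp_iff _ hA.2).symm.trans ((Iff.of_eq ?_).trans (Function.Surjective.of_comp_iff' hB _))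
    exact congrArg Function.Surjective (funext fun z => DFunLike.congr_fun (EtaLib.residueFieldMap_comp f x) z)
  refine key.trans ?_
  let p := (PrimeSpectrum.comap f x).asIdeal
  constructor
  · intro h b
    obtain ⟨z, hz⟩ := h (algebraMap B _ b)
    obtain ⟨a, s, hs, hz'⟩ := IsFractionRing.div_surjective (A := A ⧸ p) z
    obtain ⟨a, rfl⟩ := Ideal.Quotient.mk_surjective a
    obtain ⟨s, rfl⟩ := Ideal.Quotient.mk_surjective s
    have hs0 : f s ∉ x.asIdeal := fun hc => nonZeroDivisors.ne_zero hs (Ideal.Quotient.eq_zero_iff_mem.2 hc)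
    refine ⟨a, s, hs0, ?_⟩
    rw [← Ideal.algebraMap_residueField_eq_zero, map_sub, map_mul, ← hz, ← hz', sub_eq_zero, map_div₀]
    refine (congrArg (_ * ·) (congrArg₂ (· / ·) (map_algebraMap' f x a) (map_algebraMap' f x s))).trans ?_
    exact mul_div_cancel₀ _ fun hc => hs0 (Ideal.algebraMap_residueField_eq_zero.1 hc)
  · intro h z
    obtain ⟨b, t, ht, rfl⟩ := IsFractionRing.div_surjective (A := B ⧸ x.asIdeal) z
    obtain ⟨b, rfl⟩ := Ideal.Quotient.mk_surjective b
    obtain ⟨t, rfl⟩ := Ideal.Quotient.mk_surjective t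
    obtain ⟨a, s, hs, hb⟩ := h b
    obtain ⟨a', s', hs', ht'⟩ := h t
    rw [← Ideal.algebraMap_residueField_eq_zero, map_sub, map_mul, sub_eq_zero] at hb ht'
    have h1 : algebraMap B x.asIdeal.ResidueField (f s) ≠ 0 := fun hc => hs (Ideal.algebraMap_residueField_eq_zero.1 hc)
    have h2 : algebraMap B x.asIdeal.ResidueField (f s') ≠ 0 := fun hc => hs' (Ideal.algebraMap_residueField_eq_zero.1 hc)
    refine ⟨algebraMap A p.ResidueField a / algebraMap A p.ResidueField s /
      (algebraMap A p.ResidueField a' / algebraMap A p.ResidueField s'), ?_⟩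
    rw [map_div₀, map_div₀, map_div₀]
    refine (congrArg₂ (· / ·) (congrArg₂ (· / ·) (map_algebraMap' f x a) (map_algebraMap' f x s))
      (congrArg₂ (· / ·) (map_algebraMap' f x a') (map_algebraMap' f x s'))).trans ?_
    rw [← hb, ← ht', mul_div_cancel_left₀ _ h1, mul_div_cancel_left₀ _ h2]
    rfl

lemma RF.of_map (f : A →+* B) (Q : PrimeSpectrum B) (a : A) : RF f Q (f a) :=
  ⟨a, 1, by rw [map_one]; exact fun h => Q.2.ne_top ((Ideal.eq_top_iff_one _).2 h), by simp⟩

lemma RF.add {f : A →+* B} {Q : PrimeSpectrum B} {b c : B} (hb : RF f Q b) (hc : RF f Q c) : RF f Q (b + c) := by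
  obtain ⟨a, s, hs, h⟩ := hb
  obtain ⟨a', s', hs', h'⟩ := hc
  refine ⟨a * s' + s * a', s * s', by rw [map_mul]; exact fun h => (Q.2.mem_or_mem h).elim hs hs', ?_⟩
  convert Q.asIdeal.add_mem (Q.asIdeal.mul_mem_left (f s') h) (Q.asIdeal.mul_mem_left (f s) h') using 1
  simp only [map_add, map_mul]
  ring

lemma RF.mul {f : A →+* B} {Q : PrimeSpectrum B} {b c : B} (hb : RF f Q b) (hc : RF f Q c) : RF f Q (b * c) := by
  obtain ⟨a, s, hs, h⟩ := hb
  obtain ⟨a', s', hs', h'⟩ := hc
  refine ⟨a * a', s * s', by rw [map_mul]; exact fun h => (Q.2.mem_or_mem h).elim hs hs', ?_⟩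
  convert Q.asIdeal.add_mem (Q.asIdeal.mul_mem_left (f s' * c) h) (Q.asIdeal.mul_mem_left (f a) h') using 1
  simp only [map_mul]
  ring

section Alg

variable [Algebra A B]

lemma sub_univInj (B' : Subalgebra A B) (hint : (algebraMap A B).IsIntegral)
    (hu : ∀ (K : Type u) [Field K] (g₁ g₂ : B →+* K), g₁.comp (algebraMap A B) = g₂.comp (algebraMap A B) → g₁ = g₂)
    (K : Type u) [Field K] (g₁ g₂ : B' →+* K) (h : g₁.comp (algebraMap A B') = g₂.comp (algebraMap A B')) :
    g₁ = g₂ := by
  have hi : B'.val.toRingHom.IsIntegral := RingHom.IsIntegral.tower_top (algebraMap A B') B'.val.toRingHom hint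
  obtain ⟨h₁, e₁⟩ := WeakNormLib.exists_lift ((algebraMap K (AlgebraicClosure K)).comp g₁) B'.val.toRingHom
    Subtype.val_injective hi
  obtain ⟨h₂, e₂⟩ := WeakNormLib.exists_lift ((algebraMap K (AlgebraicClosure K)).comp g₂) B'.val.toRingHom
    Subtype.val_injective hi
  have := hu (AlgebraicClosure K) h₁ h₂ (RingHom.ext fun a => ((e₁ (algebraMap A B' a)).trans
    ((congrArg (algebraMap K (AlgebraicClosure K)) (DFunLike.congr_fun h a)).trans (e₂ (algebraMap A B' a)).symm)))
  refine RingHom.ext fun b => (algebraMap K (AlgebraicClosure K)).injective ?_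
  exact (e₁ b).symm.trans ((DFunLike.congr_fun this _).trans (e₂ b))

lemma sub_isIntegral (B' : Subalgebra A B) (h : (algebraMap A B).IsIntegral) : (algebraMap A B').IsIntegral :=
  RingHom.IsIntegral.tower_bot (algebraMap A B') B'.val.toRingHom Subtype.val_injective h

lemma sub_surjective (B' : Subalgebra A B) (hs : Function.Surjective (PrimeSpectrum.comap (algebraMap A B))) :
    Function.Surjective (PrimeSpectrum.comap (algebraMap A B')) := fun p => by
  obtain ⟨Q, hQ⟩ := hs p
  exact ⟨PrimeSpectrum.comap B'.val.toRingHom Q, by rw [← PrimeSpectrum.comap_comp_apply]; exact hQ⟩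

lemma sub_RF (B' : Subalgebra A B) (hint : (algebraMap A B).IsIntegral)
    (h : ∀ (Q : PrimeSpectrum B) (b : B), RF (algebraMap A B) Q b) (Q : PrimeSpectrum B') (b : B') :
    RF (algebraMap A B') Q b := by
  have hi : B'.val.toRingHom.IsIntegral := RingHom.IsIntegral.tower_top (algebraMap A B') B'.val.toRingHom hint
  obtain ⟨Q', hQ'⟩ := hi.comap_surjective Subtype.val_injective Q
  subst hQ'
  obtain ⟨a, s, hs, hb⟩ := h Q' b
  exact ⟨a, s, hs, hb⟩

variable (A B) in
/-- The images of universal homeomorphisms. -/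
def GenSet (P : ∀ (C : Type u) [CommRing C] [Algebra A C], Prop) : Set B :=
  {x | ∃ (C : Type u) (_ : CommRing C) (_ : Algebra A C) (g : C →ₐ[A] B),
    FlatMor.IsUnivHomeo (Spec.map (CommRingCat.ofHom (algebraMap A C))) ∧ P C ∧ x ∈ g.range}

lemma univHomeo_adjoin (hdom : RingHom.ker (algebraMap A B) ≤ nilradical A)
    (P : ∀ (C : Type u) [CommRing C] [Algebra A C], Prop) :
    FlatMor.IsUnivHomeo (Spec.map (CommRingCat.ofHom (algebraMap A (Algebra.adjoin A (GenSet A B P))))) := by
  set B' := Algebra.adjoin A (GenSet A B P)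
  have hint : ∀ x ∈ B', IsIntegral A x := by
    intro x hx
    refine (Algebra.adjoin_le (S := integralClosure A B) ?_) hx
    rintro y ⟨C, _, _, g, hC, -, c, rfl⟩
    obtain ⟨p, hp, hp0⟩ := ((univHomeo_iff _).1 hC).1 c
    exact (IsIntegral.map g (⟨p, hp, hp0⟩ : IsIntegral A c))
  have hint' : (algebraMap A B').IsIntegral := fun x =>
    (isIntegral_algHom_iff B'.val Subtype.val_injective).1 (hint x x.2)
  rw [univHomeo_iff]
  refine ⟨hint', ?_, fun K _ g₁ g₂ h => ?_⟩
  · intro p
    have hker : RingHom.ker (algebraMap A B') ≤ p.asIdeal := fun a ha => by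
      have : a ∈ nilradical A := hdom (RingHom.mem_ker.2 (congrArg Subtype.val (RingHom.mem_ker.1 ha)))
      exact nilradical_le_prime p.asIdeal this
    letI : Algebra.IsIntegral A B' := ⟨hint'⟩
    obtain ⟨Q, -, hQ, hQp⟩ := Ideal.exists_ideal_over_prime_of_isIntegral p.asIdeal (⊥ : Ideal B')
      (fun a ha => hker ha)
    exact ⟨⟨Q, hQ⟩, PrimeSpectrum.ext hQp⟩
  · refine RingHom.ext fun ⟨x, hx⟩ => ?_
    induction hx using Algebra.adjoin_induction with
    | mem y hy =>
      obtain ⟨C, _, _, g, hC, hP, c, rfl⟩ := hy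
      have hle : ∀ c, g c ∈ B' := fun c => Algebra.subset_adjoin ⟨C, ‹_›, ‹_›, g, hC, hP, c, rfl⟩
      have := ((univHomeo_iff _).1 hC).2.2 K (g₁.comp (g.codRestrict B' hle).toRingHom)
        (g₂.comp (g.codRestrict B' hle).toRingHom) (RingHom.ext fun a => by
          simpa using DFunLike.congr_fun h a)
      exact DFunLike.congr_fun this c
    | algebraMap a => exact DFunLike.congr_fun h a
    | add y z hy hz h1 h2 =>
      exact (map_add g₁ ⟨y, hy⟩ ⟨z, hz⟩).trans ((congrArg₂ (· + ·) h1 h2).trans (map_add g₂ ⟨y, hy⟩ ⟨z, hz⟩).symm)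
    | mul y z hy hz h1 h2 =>
      exact (map_mul g₁ ⟨y, hy⟩ ⟨z, hz⟩).trans ((congrArg₂ (· * ·) h1 h2).trans (map_mul g₂ ⟨y, hy⟩ ⟨z, hz⟩).symm)

lemma RF_adjoin (P : ∀ (C : Type u) [CommRing C] [Algebra A C], Prop)
    (hP : ∀ (C : Type u) [CommRing C] [Algebra A C], P C → ∀ (Q : PrimeSpectrum C) (c : C), RF (algebraMap A C) Q c)
    (Q : PrimeSpectrum (Algebra.adjoin A (GenSet A B P))) (b : Algebra.adjoin A (GenSet A B P)) :
    RF (algebraMap A (Algebra.adjoin A (GenSet A B P))) Q b := by
  obtain ⟨x, hx⟩ := b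
  induction hx using Algebra.adjoin_induction with
  | mem y hy =>
    obtain ⟨C, _, _, g, hC, hPC, c, rfl⟩ := hy
    let g' := g.codRestrict (Algebra.adjoin A (GenSet A B P))
      fun c => Algebra.subset_adjoin ⟨C, ‹_›, ‹_›, g, hC, hPC, c, rfl⟩
    obtain ⟨a, s, hs, hb⟩ := hP C hPC (PrimeSpectrum.comap g'.toRingHom Q) c
    refine ⟨a, s, ?_, ?_⟩
    · rw [← g'.commutes s]; exact hs
    · rw [← g'.commutes s, ← g'.commutes a]
      have : g'.toRingHom (algebraMap A C s * c - algebraMap A C a) ∈ Q.asIdeal := hb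
      rw [AlgHom.toRingHom_eq_coe, RingHom.coe_coe, map_sub, map_mul] at this
      exact this
  | algebraMap a => exact RF.of_map _ Q a
  | add y z hy hz h1 h2 => exact by simpa using RF.add h1 h2
  | mul y z hy hz h1 h2 => exact by simpa using RF.mul h1 h2

end Alg

section Colim

open Limits

variable (R : CommRingCat.{u}) {J : Type u} [SmallCategory J] [IsFiltered J]
variable (F : J ⥤ Under R) (c : Limits.Cocone F) (hc : Limits.IsColimit c)

include hc

lemma colim_rep (x : c.pt.right) : ∃ (j : J) (y : (F.obj j).right), (c.ι.app j).right y = x :=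
  Concrete.isColimit_exists_rep _ (isColimitOfPreserves (Under.forget R) hc) x

lemma colim_hom_apply (j : J) (a : R) : (c.ι.app j).right ((F.obj j).hom a) = c.pt.hom a :=
  ConcreteCategory.congr_hom (Under.w (c.ι.app j)) a

lemma colim_isIntegral (h : ∀ j, (F.obj j).hom.hom.IsIntegral) : c.pt.hom.hom.IsIntegral := fun x => by
  obtain ⟨j, y, rfl⟩ := colim_rep R F c hc x
  obtain ⟨p, hp, hp0⟩ := h j y
  refine ⟨p, hp, ?_⟩
  have := congrArg (c.ι.app j).right.hom hp0
  rw [Polynomial.hom_eval₂, map_zero] at this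
  have e : (c.ι.app j).right.hom.comp (F.obj j).hom.hom = c.pt.hom.hom :=
    congrArg CommRingCat.Hom.hom (Under.w (c.ι.app j))
  rw [e] at this
  exact this

lemma colim_univInj (h : ∀ j (K : Type u) [Field K] (g₁ g₂ : (F.obj j).right →+* K),
    g₁.comp (F.obj j).hom.hom = g₂.comp (F.obj j).hom.hom → g₁ = g₂)
    (K : Type u) [Field K] (g₁ g₂ : c.pt.right →+* K) (hg : g₁.comp c.pt.hom.hom = g₂.comp c.pt.hom.hom) :
    g₁ = g₂ := by
  refine RingHom.ext fun x => ?_
  obtain ⟨j, y, rfl⟩ := colim_rep R F c hc x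
  refine DFunLike.congr_fun (h j K (g₁.comp (c.ι.app j).right.hom) (g₂.comp (c.ι.app j).right.hom)
    (RingHom.ext fun a => ?_)) y
  show g₁ ((c.ι.app j).right ((F.obj j).hom a)) = g₂ ((c.ι.app j).right ((F.obj j).hom a))
  rw [colim_hom_apply R F c hc]
  exact DFunLike.congr_fun hg a

lemma colim_surjective (hint : ∀ j, (F.obj j).hom.hom.IsIntegral)
    (hs : ∀ j, Function.Surjective (PrimeSpectrum.comap (F.obj j).hom.hom)) :
    Function.Surjective (PrimeSpectrum.comap c.pt.hom.hom) := by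
  intro p
  letI := c.pt.hom.hom.toAlgebra
  have : Algebra.IsIntegral R c.pt.right := ⟨colim_isIntegral R F c hc hint⟩
  have hker : RingHom.ker (algebraMap R c.pt.right) ≤ p.asIdeal := fun a ha => by
    obtain ⟨j₀⟩ := (IsFiltered.nonempty : Nonempty J)
    have h0 : (c.ι.app j₀).right ((F.obj j₀).hom a) = (c.ι.app j₀).right ((F.obj j₀).hom 0) := by
      rw [colim_hom_apply R F c hc, colim_hom_apply R F c hc, map_zero]
      exact ha
    obtain ⟨k, f, g, hk⟩ := Concrete.isColimit_exists_of_rep_eq.{u} _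
      (isColimitOfPreserves (Under.forget R) hc) _ _ h0
    have hk' : (F.obj k).hom.hom a = 0 := by
      have h1 : (F.map f).right ((F.obj j₀).hom a) = (F.obj k).hom a := ConcreteCategory.congr_hom (Under.w (F.map f)) a
      have h2 : (F.map g).right ((F.obj j₀).hom 0) = (F.obj k).hom 0 := ConcreteCategory.congr_hom (Under.w (F.map g)) 0
      exact h1.symm.trans (hk.trans (h2.trans (map_zero _)))
    exact nilradical_le_prime p.asIdeal (isNilpotent_of_surjective_comap _ (hs k) hk')
  obtain ⟨Q, -, hQ, hQp⟩ := Ideal.exists_ideal_over_prime_of_isIntegral p.asIdeal (⊥ : Ideal c.pt.right)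
    (fun a ha => hker ha)
  exact ⟨⟨Q, hQ⟩, PrimeSpectrum.ext hQp⟩

lemma colim_RF (h : ∀ j (Q : PrimeSpectrum (F.obj j).right) b, RF (F.obj j).hom.hom Q b)
    (Q : PrimeSpectrum c.pt.right) (x : c.pt.right) : RF c.pt.hom.hom Q x := by
  obtain ⟨j, y, rfl⟩ := colim_rep R F c hc x
  obtain ⟨a, s, hs, hy⟩ := h j (PrimeSpectrum.comap (c.ι.app j).right.hom Q) y
  refine ⟨a, s, ?_, ?_⟩
  · rw [← colim_hom_apply R F c hc j]; exact hs
  · rw [← colim_hom_apply R F c hc j, ← colim_hom_apply R F c hc j, ← map_mul, ← map_sub]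
    exact hy

end Colim

end AWNLib
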